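import Mathlib
import Cfsg.Prelude.Def_OddOrderLocal
import Cfsg.Agent.Lib.Helper1.Hall

set_option autoImplicit false

namespace Cfsg.Agent.Lib.Helper1.BG12b

theorem pi_split (π : Set ℕ) : ∀ N : ℕ, N ≠ 0 → ∃ m n : ℕ, N = m * n ∧ m.Coprime n ∧
    (∀ p : ℕ, p.Prime → p ∣ m → p ∈ π) ∧ (∀ p : ℕ, p.Prime → p ∣ n → p ∉ π) := by
  intro N
  induction N using Nat.strong_induction_on with
  | _ N ih =>
    intro hN
    by_cases h1 : N = 1
    · refine ⟨1, 1, by rw [h1], Nat.coprime_one_left 1, ?_, ?_⟩
      · intro p hp hd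
        exact absurd (Nat.dvd_one.mp hd) hp.one_lt.ne'
      · intro p hp hd
        exact absurd (Nat.dvd_one.mp hd) hp.one_lt.ne'
    obtain ⟨p, hp, hpd⟩ := Nat.exists_prime_and_dvd h1
    have hlt : N / p ^ N.factorization p < N := by
      apply Nat.div_lt_self (Nat.pos_of_ne_zero hN)
      have hk : N.factorization p ≠ 0 := by
        have := (hp.factorization_pos_of_dvd hN hpd)
        omega
      exact Nat.one_lt_pow hk hp.one_lt
    have hne : N / p ^ N.factorization p ≠ 0 := (Nat.ordCompl_pos p hN).ne'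
    obtain ⟨m', n', hmn, hcop, hm', hn'⟩ := ih _ hlt hne
    have hsplit : p ^ N.factorization p * (N / p ^ N.factorization p) = N :=
      Nat.ordProj_mul_ordCompl_eq_self N p
    have hcp : (p ^ N.factorization p).Coprime (N / p ^ N.factorization p) :=
      Nat.Coprime.pow_left _ (Nat.coprime_ordCompl hp hN)
    rw [hmn] at hcp hsplit
    obtain ⟨k, hk⟩ : ∃ k : ℕ, k = N.factorization p := ⟨_, rfl⟩
    rw [← hk] at hcp hsplit
    by_cases hpπ : p ∈ π
    · refine ⟨p ^ k * m', n', ?_, ?_, ?_, hn'⟩
      · rw [← hsplit]; ring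
      · exact Nat.Coprime.mul_left (Nat.Coprime.coprime_mul_left_right hcp) hcop
      · intro q hq hqd
        rcases (Nat.Prime.dvd_mul hq).mp hqd with h | h
        · have := (Nat.prime_dvd_prime_iff_eq hq hp).mp (hq.dvd_of_dvd_pow h)
          rw [this]; exact hpπ
        · exact hm' q hq h
    · refine ⟨m', p ^ k * n', ?_, ?_, hm', ?_⟩
      · rw [← hsplit]; ring
      · exact Nat.Coprime.mul_right (Nat.Coprime.coprime_mul_right_right hcp).symm hcop
      · intro q hq hqd
        rcases (Nat.Prime.dvd_mul hq).mp hqd with h | h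
        · have := (Nat.prime_dvd_prime_iff_eq hq hp).mp (hq.dvd_of_dvd_pow h)
          rw [this]; exact hpπ
        · exact hn' q hq h

variable {G : Type*} [Group G] [Finite G]

theorem exists_piHallOf (π : Set ℕ) (H : Subgroup G) [Group.IsSolvable H] :
    ∃ K : Subgroup G, Cfsg.IsPiHallOf π K H := by
  obtain ⟨m, n, hmn, hcop, hm, hn⟩ := pi_split π (Nat.card H) Nat.card_pos.ne'
  obtain ⟨K', hK'⟩ := Cfsg.Agent.Lib.Helper1.hall_exists (G := H) m n hmn hcop
  refine ⟨K'.map H.subtype, ?_, ?_, ?_⟩
  · rintro _ ⟨y, -, rfl⟩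
    exact y.2
  · intro p hp hpd
    rw [Subgroup.card_map_of_injective H.subtype_injective, hK'] at hpd
    exact hm p hp hpd
  · intro p hp hpπ hpd
    have h1 : (K'.map H.subtype).relIndex H = K'.index := by
      unfold Subgroup.relIndex
      congr 1
      unfold Subgroup.subgroupOf
      exact Subgroup.comap_map_eq_self_of_injective H.subtype_injective _
    rw [h1] at hpd
    have h2 : Nat.card K' * K'.index = Nat.card H := Subgroup.card_mul_index K'
    rw [hK', hmn] at h2
    have hmpos : 0 < m := by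
      rcases Nat.eq_zero_or_pos m with h | h
      · rw [h, zero_mul] at hmn
        exact absurd hmn Nat.card_pos.ne'
      · exact h
    have h3 : K'.index = n := Nat.eq_of_mul_eq_mul_left hmpos h2
    rw [h3] at hpd
    exact hn p hp hpd hpπ

end Cfsg.Agent.Lib.Helper1.BG12b
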