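import Mathlib
import Cfsg.Agent.Lib.Helper28.BGtI
import Cfsg.Agent.Lib.Helper1.BG15.URegular

set_option autoImplicit false

namespace Cfsg.Agent.Lib.Helper1.BG12b

open Cfsg Cfsg.Agent.Lib.Helper18 Cfsg.Agent.Lib.Helper28.BGt

variable {G : Type*} [Group G] [Finite G]

structure RegCtx (M E U : Subgroup G) : Prop where
  hG : Cfsg.IsMinSimpleOddOrder G
  h16 : T1416 G
  h17 : T1417 G
  nc : NC G
  h12 : T1412 G
  hM : IsCoatom M
  hE : Cfsg.IsComplIn E (Cfsg.sigmaCore M) M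
  hUE : U ≤ E
  hUN : E ≤ Subgroup.normalizer (U : Set G)
  hreg : ∀ e ∈ U, e ≠ 1 →
    (∀ p : ℕ, p.Prime → p ∣ orderOf e → p ∈ Cfsg.tau1 M ∪ Cfsg.tau3 M) →
    Cfsg.sigmaCore M ⊓ Subgroup.centralizer ({e} : Set G) = ⊥

theorem prime_tau (hG : Cfsg.IsMinSimpleOddOrder G) {M E : Subgroup G} (hM : IsCoatom M)
    (hE : Cfsg.IsComplIn E (Cfsg.sigmaCore M) M) {q : ℕ} (hq : q.Prime)
    (hqE : q ∣ Nat.card E) :
    q ∈ Cfsg.tau1 M ∪ Cfsg.tau3 M ∨ q ∈ Cfsg.tau2 M := by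
  have hqσ := compl_prime_not_sigma hG hM hE hq hqE
  have hqM : q ∣ Nat.card M := hqE.trans (Subgroup.card_dvd_of_le hE.1)
  have hr2 := Cfsg.Agent.Lib.Helper1.BG15.rank_le_two_of_not_sigma hG hM hq hqσ
  by_cases hr1 : Cfsg.PRankLE q 1 M
  · left
    by_cases hd : q ∣ Nat.card ↥⁅M, M⁆
    · exact Or.inr ⟨hq, hqσ, hd, hr1⟩
    · exact Or.inl ⟨hq, hqσ, hqM, hd, hr1⟩
  · exact Or.inr ⟨hq, hqσ, hr2, hr1⟩

theorem tau13_not_tau2 {M : Subgroup G} {q : ℕ} (h : q ∈ Cfsg.tau1 M ∪ Cfsg.tau3 M) :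
    q ∉ Cfsg.tau2 M := by
  intro h2
  rcases h with h | h
  · exact h2.2.2.2 h.2.2.2.2
  · exact h2.2.2.2 h.2.2.2

theorem mem_inf_centralizer_singleton {H : Subgroup G} {e y : G} (hy : y ∈ H)
    (hey : e * y = y * e) : y ∈ H ⊓ Subgroup.centralizer ({e} : Set G) := by
  refine ⟨hy, ?_⟩
  show y ∈ Subgroup.centralizer ({e} : Set G)
  rw [Subgroup.mem_centralizer_iff]
  intro z hz
  rw [Set.mem_singleton_iff] at hz
  rw [hz]; exact hey

namespace RegCtx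

variable {M E U : Subgroup G}

theorem hUM (c : RegCtx M E U) : U ≤ M := c.hUE.trans c.hE.1

theorem prime_order_regular (c : RegCtx M E U) {e : G} (he : e ∈ U) {q : ℕ} (hq : q.Prime)
    (heo : orderOf e = q) (hτ : q ∈ Cfsg.tau1 M ∪ Cfsg.tau3 M) :
    Cfsg.sigmaCore M ⊓ Subgroup.centralizer ({e} : Set G) = ⊥ := by
  apply c.hreg e he
  · intro h
    rw [h, orderOf_one] at heo
    exact hq.one_lt.ne heo
  · intro p hp hpd
    rw [heo] at hpd
    rw [(Nat.prime_dvd_prime_iff_eq hp hq).mp hpd]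
    exact hτ

theorem nonreg_tau2 (c : RegCtx M E U) {e : G} (he : e ∈ U) {q : ℕ} (hq : q.Prime)
    (hqe : q ∣ orderOf e) {y : G} (hy : y ∈ Cfsg.sigmaCore M) (hy1 : y ≠ 1)
    (hey : e * y = y * e) : q ∈ Cfsg.tau2 M := by
  have hqE : q ∣ Nat.card E :=
    hqe.trans (Subgroup.orderOf_dvd_natCard E (c.hUE he))
  rcases prime_tau c.hG c.hM c.hE hq hqE with hτ | hτ
  · exfalso
    have hx0 : orderOf e ≠ 0 := (orderOf_pos e).ne'
    have hxo : orderOf (e ^ (orderOf e / q)) = q := orderOf_pow_orderOf_div hx0 hqe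
    have h1 := c.prime_order_regular (U.pow_mem he _) hq hxo hτ
    have h2 : y ∈ Cfsg.sigmaCore M ⊓ Subgroup.centralizer ({e ^ (orderOf e / q)} : Set G) :=
      mem_inf_centralizer_singleton hy
        ((Commute.pow_left (show Commute e y from hey) _)).eq
    rw [h1, Subgroup.mem_bot] at h2
    exact hy1 h2
  · exact hτ

end RegCtx

end Cfsg.Agent.Lib.Helper1.BG12b
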