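import Mathlib
import Cfsg.Agent.Lib.Helper1.BG12b.Setup
import Cfsg.Agent.Lib.Helper1.BG12b.PiSplit
import Cfsg.Agent.Lib.Helper1.BG12.TwelveOneMain

set_option autoImplicit false

namespace Cfsg.Agent.Lib.Helper1.BG12b

open Cfsg Cfsg.Agent.Lib.Helper18 Cfsg.Agent.Lib.Helper28.BGt
open scoped commutatorElement

variable {G : Type*} [Group G] [Finite G]

theorem le_of_coprime_relIndex {N K H : Subgroup G} (hNH : N ≤ H) (hKH : K ≤ H)
    (hn : H ≤ Subgroup.normalizer (N : Set G))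
    (hcop : (Nat.card K).Coprime (N.relIndex H)) : K ≤ N := by
  have hnorm : (N.subgroupOf H).Normal :=
    (Subgroup.normal_subgroupOf_iff_le_normalizer hNH).mpr hn
  have hc : Nat.card (K.subgroupOf H) = Nat.card K :=
    Nat.card_congr (Subgroup.subgroupOfEquivOfLe hKH).toEquiv
  have h1 := Cfsg.Agent.Lib.Helper1.BG12.le_of_coprime_index (N.subgroupOf H) (K.subgroupOf H)
    (by rw [hc]; exact hcop)
  intro k hk
  have : (⟨k, hKH hk⟩ : H) ∈ N.subgroupOf H := h1 (Subgroup.mem_subgroupOf.mpr hk)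
  exact Subgroup.mem_subgroupOf.mp this

theorem compl_solvable (hG : Cfsg.IsMinSimpleOddOrder G) {M E : Subgroup G} (hM : IsCoatom M)
    (hEM : E ≤ M) : Group.IsSolvable E := by
  have hMs : Group.IsSolvable M := hG.2.2.2 M hM.1
  exact solvable_of_solvable_injective (Subgroup.inclusion_injective hEM)

theorem exists_E3 (hG : Cfsg.IsMinSimpleOddOrder G) {M E : Subgroup G} (hM : IsCoatom M)
    (hE : Cfsg.IsComplIn E (Cfsg.sigmaCore M) M) :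
    ∃ E₃ : Subgroup G, Cfsg.IsPiHallOf (Cfsg.tau3 M) E₃ E ∧ IsCyclic E₃ ∧ E₃ ≤ ⁅E, E⁆ ∧
      E ≤ Subgroup.normalizer (E₃ : Set G) := by
  have : Group.IsSolvable E := compl_solvable hG hM hE.1
  obtain ⟨E₃, hE₃⟩ := exists_piHallOf (Cfsg.tau3 M) E
  obtain ⟨h1, h2, h3⟩ := (Cfsg.Agent.Lib.Helper1.BG12.twelve_one hG M hM E hE).2.2 E₃ hE₃
  exact ⟨E₃, hE₃, h1, h2, h3⟩

theorem mem_of_piHall_normal {π : Set ℕ} {E₃ E : Subgroup G} (hE₃ : Cfsg.IsPiHallOf π E₃ E)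
    (hn : E ≤ Subgroup.normalizer (E₃ : Set G)) {e : G} (he : e ∈ E)
    (hπ : ∀ q : ℕ, q.Prime → q ∣ orderOf e → q ∈ π) : e ∈ E₃ := by
  have hle : Subgroup.zpowers e ≤ E₃ := by
    apply le_of_coprime_relIndex hE₃.1 (Subgroup.zpowers_le.mpr he) hn
    rw [Nat.card_zpowers]
    apply Nat.coprime_of_dvd
    intro q hq hq1 hq2
    exact hE₃.2.2 q hq (hπ q hq hq1) hq2
  exact hle (Subgroup.mem_zpowers e)

theorem E3_centralizes_A {M E : Subgroup G} {p : ℕ} {A : Subgroup G} (c : Tau2Ctx M E p A)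
    {E₃ : Subgroup G} (hE₃ : Cfsg.IsPiHallOf (Cfsg.tau3 M) E₃ E)
    (hn : E ≤ Subgroup.normalizer (E₃ : Set G)) {e : G} (he : e ∈ E₃) {a : G} (ha : a ∈ A) :
    e * a = a * e := by
  apply commute_of_normalize_of_inf_eq_bot (hE₃.1.trans c.E_le_normalizer) (c.hAE.trans hn) _ he ha
  apply Cfsg.Agent.Lib.Helper1.BG15.eq_bot_of_forall_prime_not_dvd
  intro q hq hqd
  have h1 : q ∣ Nat.card E₃ := hqd.trans (Subgroup.card_dvd_of_le inf_le_left)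
  have h2 : q ∣ Nat.card A := hqd.trans (Subgroup.card_dvd_of_le inf_le_right)
  rw [c.hA2] at h2
  have h3 : q = p := (Nat.prime_dvd_prime_iff_eq hq c.prime).mp (hq.dvd_of_dvd_pow h2)
  have h4 := hE₃.2.1 q hq h1
  rw [h3] at h4
  exact tau13_not_tau2 (Or.inr h4) c.hp

theorem comm_centralizes_A (hG : Cfsg.IsMinSimpleOddOrder G) {M E : Subgroup G} {p : ℕ}
    {A : Subgroup G} (c : Tau2Ctx M E p A) {F : Subgroup G} (hFE : F ≤ E)
    (hFτ : ∀ q : ℕ, q.Prime → q ∣ Nat.card F → q ∈ Cfsg.tau1 M ∪ Cfsg.tau3 M)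
    {f u : G} (hf : f ∈ F) (hu : u ∈ F) {a : G} (ha : a ∈ A) :
    (f * u * f⁻¹ * u⁻¹) * a = a * (f * u * f⁻¹ * u⁻¹) := by
  obtain ⟨E₃, hE₃, -, -, hn⟩ := exists_E3 hG c.hM c.hE
  have hcF : f * u * f⁻¹ * u⁻¹ ∈ F := F.mul_mem (F.mul_mem (F.mul_mem hf hu) (F.inv_mem hf)) (F.inv_mem hu)
  have hcD : f * u * f⁻¹ * u⁻¹ ∈ ⁅E, E⁆ := Subgroup.commutator_mem_commutator (hFE hf) (hFE hu)
  have hcM : f * u * f⁻¹ * u⁻¹ ∈ ⁅M, M⁆ := Subgroup.commutator_mono c.hEM c.hEM hcD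
  apply E3_centralizes_A c hE₃ hn _ ha
  apply mem_of_piHall_normal hE₃ hn (hFE hcF)
  intro q hq hqd
  have h1 : q ∣ Nat.card F := hqd.trans (Subgroup.orderOf_dvd_natCard F hcF)
  have h2 : q ∣ Nat.card ↥⁅M, M⁆ := hqd.trans (Subgroup.orderOf_dvd_natCard _ hcM)
  rcases hFτ q hq h1 with h | h
  · exact absurd h2 h.2.2.2.1
  · exact h

end Cfsg.Agent.Lib.Helper1.BG12b
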