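import Mathlib
import Cfsg.Agent.Lib.Helper1.BG12b.EThree
import Cfsg.Agent.Lib.Helper1.CoprimeAbelian
import Cfsg.Agent.Lib.Helper1.BG11.ElevenSevenA
import Cfsg.Agent.Lib.Helper21.ZGB

set_option autoImplicit false

namespace Cfsg.Agent.Lib.Helper1.BG12b

open Cfsg Cfsg.Agent.Lib.Helper18 Cfsg.Agent.Lib.Helper28.BGt
open scoped commutatorElement

variable {G : Type*} [Group G] [Finite G]

theorem cent_of_cent_omega {r : ℕ} [hr : Fact r.Prime] {R : Subgroup G} (hR : IsPGroup r R)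
    (hRc : ∀ a ∈ R, ∀ b ∈ R, a * b = b * a) {x : G}
    (hxN : x ∈ Subgroup.normalizer (R : Set G)) (hcop : (orderOf x).Coprime r)
    (hΩ : ∀ w ∈ R, w ^ r = 1 → x * w = w * x) : ∀ w ∈ R, x * w = w * x := by
  have hRc' : IsMulCommutative R := ⟨⟨fun a b => Subtype.ext (hRc a a.2 b b.2)⟩⟩
  have hAV : Subgroup.zpowers x ≤ Subgroup.normalizer (R : Set G) := Subgroup.zpowers_le.mpr hxN
  have hcop' : (Nat.card (Subgroup.zpowers x)).Coprime (Nat.card R) := by
    rw [Nat.card_zpowers]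
    obtain ⟨n, hn⟩ := IsPGroup.iff_card.mp hR
    rw [hn]
    exact Nat.Coprime.pow_right n hcop
  obtain ⟨h1, -⟩ := Cfsg.Agent.Lib.Helper1.coprime_abelian_decomposition (Subgroup.zpowers x) R hAV hcop'
  have hWR : ⁅R, Subgroup.zpowers x⁆ ≤ R :=
    Cfsg.Agent.Lib.Helper1.BG11.commutator_le_of_normalizes hAV
  have hbot : ⁅R, Subgroup.zpowers x⁆ = ⊥ := by
    by_contra hne
    have hWp : IsPGroup r (⁅R, Subgroup.zpowers x⁆ : Subgroup G) := hR.to_le hWR
    obtain ⟨n, hn⟩ := IsPGroup.iff_card.mp hWp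
    have hn0 : n ≠ 0 := by
      rintro rfl
      rw [pow_zero] at hn
      exact hne (Subgroup.eq_bot_of_card_eq _ hn)
    have hrd : r ∣ Nat.card (⁅R, Subgroup.zpowers x⁆ : Subgroup G) := by
      rw [hn]; exact dvd_pow_self r hn0
    obtain ⟨w, hw⟩ := exists_prime_orderOf_dvd_card' r hrd
    have hwR : (w : G) ∈ R := hWR w.2
    have hwr : (w : G) ^ r = 1 := by
      have := pow_orderOf_eq_one w
      rw [hw] at this
      simpa using congrArg Subtype.val this
    have hxw := hΩ _ hwR hwr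
    have hwC : (w : G) ∈ Subgroup.centralizer (Subgroup.zpowers x : Set G) := by
      apply centralizer_singleton_le_zpowers x
      rw [Subgroup.mem_centralizer_iff]
      intro z hz
      rw [Set.mem_singleton_iff] at hz
      rw [hz]; exact hxw
    have h2 : (w : G) ∈ (R ⊓ Subgroup.centralizer (Subgroup.zpowers x : Set G)) ⊓
        ⁅R, Subgroup.zpowers x⁆ := ⟨⟨hwR, hwC⟩, w.2⟩
    rw [h1, Subgroup.mem_bot] at h2
    have h3 : w = 1 := Subtype.ext h2
    rw [h3, orderOf_one] at hw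
    exact hr.out.one_lt.ne hw
  rw [Subgroup.commutator_eq_bot_iff_le_centralizer] at hbot
  intro w hw
  have := Subgroup.mem_centralizer_iff.mp (hbot hw) x (Subgroup.mem_zpowers x)
  exact this

theorem normal_pgroup_le_sylow {p : ℕ} [Fact p.Prime] {P R E : Subgroup G}
    (hP : IsSylowIn p P E) (hRE : R ≤ E) (hR : IsPGroup p R)
    (hn : P ≤ Subgroup.normalizer (R : Set G)) : R ≤ P := by
  have hsup : IsPGroup p (R ⊔ P : Subgroup G) :=
    IsPGroup.to_sup_of_normal_left' hR hP.isPGroup hn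
  have := hP.eq_of_le (sup_le hRE hP.le) hsup le_sup_right
  rw [← this]
  exact le_sup_left

theorem isPGroup_of_orderOf {p : ℕ} [hp : Fact p.Prime] {x : G} {k : ℕ} (h : x ^ p ^ k = 1) :
    IsPGroup p (Subgroup.zpowers x) := by
  have h1 : orderOf x ∣ p ^ k := orderOf_dvd_of_pow_eq_one h
  obtain ⟨m, -, hm⟩ := (Nat.dvd_prime_pow hp.out).mp h1
  apply IsPGroup.of_card (n := m)
  rw [Nat.card_zpowers, hm]

end Cfsg.Agent.Lib.Helper1.BG12b
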