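import Mathlib
import Cfsg.Agent.Lib.Helper1.BG12b.Setup

set_option autoImplicit false

namespace Cfsg.Agent.Lib.Helper1.BG12b

open Cfsg Cfsg.Agent.Lib.Helper18 Cfsg.Agent.Lib.Helper28.BGt

variable {G : Type*} [Group G] [Finite G]

theorem exists_y_over {M E : Subgroup G} {p : ℕ} {A : Subgroup G} (c : Tau2Ctx M E p A)
    (hS : ∀ S : Sylow p G, ¬ IsMulCommutative (S : Subgroup G))
    {B : Subgroup G} (hAB : A ≤ B) (hBM : B ≤ M) (hB : IsPGroup p B) :
    ∃ (S : Sylow p G) (P : Subgroup G) (y : G) (k : ℕ), B ≤ P ∧ IsSylowIn p P M ∧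
      P ≤ (S : Subgroup G) ∧ y ∈ (S : Subgroup G) ∧
      y ∈ Subgroup.normalizer (A : Set G) ∧ y ∉ M ∧ y ^ p ^ k = 1 := by
  have := c.fact
  obtain ⟨P', hBP⟩ := Cfsg.Agent.Lib.Helper1.BG10.exists_sylow_map_ge p M B hBM hB
  obtain ⟨P, hPdef⟩ : ∃ P : Subgroup G, P = (P' : Subgroup M).map M.subtype := ⟨_, rfl⟩
  have hPM : IsSylowIn p P M := hPdef ▸ isSylowIn_of_sylow P'
  have hBP' : B ≤ P := hPdef ▸ hBP
  have hAP : A ≤ P := hAB.trans hBP'
  obtain ⟨hcomm, -, -⟩ := c.sylow_data hAP hPM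
  obtain ⟨S, hPS⟩ := hPM.isPGroup.exists_le_sylow
  have hnil : Group.IsNilpotent (S : Subgroup G) := S.isPGroup'.isNilpotent
  have hPtop : P.subgroupOf (S : Subgroup G) < ⊤ := by
    rw [lt_top_iff_ne_top]
    intro h
    rw [Subgroup.subgroupOf_eq_top] at h
    apply hS S
    refine ⟨⟨?_⟩⟩
    rintro ⟨a, ha⟩ ⟨b, hb⟩
    apply Subtype.ext
    exact hcomm a (h ha) b (h hb)
  have hlt := Group.normalizerCondition_of_isNilpotent (G := (S : Subgroup G)) _ hPtop
  obtain ⟨y', hy'N, hy'P⟩ := SetLike.exists_of_lt hlt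
  obtain ⟨k, hk⟩ := S.isPGroup' y'
  have hyk : (y' : G) ^ p ^ k = 1 := by simpa using congrArg Subtype.val hk
  have hyP : (y' : G) ∉ P := fun h => hy'P (Subgroup.mem_subgroupOf.mpr h)
  have hyN : (y' : G) ∈ Subgroup.normalizer (P : Set G) := by
    apply mem_normalizer_of_conjSub_le
    rintro _ ⟨a, ha, rfl⟩
    show (MulAut.conj (y' : G)).toMonoidHom a ∈ P
    simp only [MulEquiv.coe_toMonoidHom, MulAut.conj_apply]
    have h1 := (Subgroup.mem_normalizer_iff.mp hy'N ⟨a, hPS ha⟩).mp (Subgroup.mem_subgroupOf.mpr ha)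
    have h2 := Subgroup.mem_subgroupOf.mp h1
    simpa using h2
  refine ⟨S, P, y', k, hBP', hPM, hPS, y'.2, c.normalizer_sylow_le hAP hPM hyN, ?_, hyk⟩
  intro hyM
  apply hyP
  have hzp : IsPGroup p (Subgroup.zpowers (y' : G)) :=
    S.isPGroup'.to_le (Subgroup.zpowers_le.mpr y'.2)
  have hzN : Subgroup.zpowers (y' : G) ≤ Subgroup.normalizer (P : Set G) :=
    Subgroup.zpowers_le.mpr hyN
  have hsup : IsPGroup p (P ⊔ Subgroup.zpowers (y' : G) : Subgroup G) :=
    IsPGroup.to_sup_of_normal_left' hPM.isPGroup hzp hzN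
  have hle : P ⊔ Subgroup.zpowers (y' : G) ≤ M := sup_le hPM.le (Subgroup.zpowers_le.mpr hyM)
  have := hPM.eq_of_le hle hsup le_sup_left
  rw [← this]
  exact Subgroup.mem_sup_right (Subgroup.mem_zpowers _)

theorem pelem_of_all_primes {e : G} {p : ℕ} (hp : p.Prime)
    (h : ∀ q : ℕ, q.Prime → q ∣ orderOf e → q = p) : ∃ k : ℕ, orderOf e = p ^ k := by
  have h0 : orderOf e ≠ 0 := (orderOf_pos e).ne'
  exact ⟨_, Nat.eq_prime_pow_of_unique_prime_dvd h0 (fun {q} hq hqd => h q hq hqd)⟩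

theorem nonab_mem_A0 {M E : Subgroup G} {p : ℕ} {A : Subgroup G} (c : Tau2Ctx M E p A)
    (nc : NC G) (h12 : T1412 G)
    (hS : ∀ S : Sylow p G, ¬ IsMulCommutative (S : Subgroup G))
    {e : G} (heE : e ∈ E) (hep : ∀ q : ℕ, q.Prime → q ∣ orderOf e → q = p)
    {y : G} (hy : y ∈ Cfsg.sigmaCore M) (hy1 : y ≠ 1) (hey : e * y = y * e) :
    e ∈ A ⊓ Subgroup.centralizer (Cfsg.sigmaCore M : Set G) := by
  have hpf := c.fact
  have hp := c.prime
  obtain ⟨hτ, ⟨hA0c, -⟩, hoth⟩ := c.twelve_seven nc h12 hS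
  obtain ⟨k, hk⟩ := pelem_of_all_primes hp hep
  cases k with
  | zero =>
    rw [pow_zero, orderOf_eq_one_iff] at hk
    rw [hk]; exact Subgroup.one_mem _
  | succ k =>
    have hx0 : orderOf e ≠ 0 := (orderOf_pos e).ne'
    have hpd : p ∣ orderOf e := by rw [hk]; exact dvd_pow_self p (Nat.succ_ne_zero k)
    obtain ⟨e₁, he₁⟩ : ∃ e₁ : G, e₁ = e ^ (orderOf e / p) := ⟨_, rfl⟩
    have he₁o : orderOf e₁ = p := he₁ ▸ orderOf_pow_orderOf_div hx0 hpd
    have he₁E : e₁ ∈ E := he₁ ▸ E.pow_mem heE _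
    have he₁y : e₁ * y = y * e₁ := he₁ ▸ ((Commute.pow_left (show Commute e y from hey) _)).eq
    have he₁z : e₁ ∈ Subgroup.zpowers e := he₁ ▸ Subgroup.pow_mem _ (Subgroup.mem_zpowers e) _
    have hcard : Nat.card (Subgroup.zpowers e₁) = p := by rw [Nat.card_zpowers, he₁o]
    have hzE : Subgroup.zpowers e₁ ≤ E := Subgroup.zpowers_le.mpr he₁E
    have hzA0 : Subgroup.zpowers e₁ = A ⊓ Subgroup.centralizer (Cfsg.sigmaCore M : Set G) := by
      by_contra hne
      have h1 := (hoth _ hzE hcard hne).1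
      have h2 : y ∈ Cfsg.sigmaCore M ⊓ Subgroup.centralizer (Subgroup.zpowers e₁ : Set G) := by
        refine ⟨hy, ?_⟩
        show y ∈ Subgroup.centralizer (Subgroup.zpowers e₁ : Set G)
        apply centralizer_singleton_le_zpowers e₁
        exact (mem_inf_centralizer_singleton hy he₁y).2
      rw [h1, Subgroup.mem_bot] at h2
      exact hy1 h2
    by_cases hep1 : e ^ p = 1
    · have : orderOf e ∣ p := orderOf_dvd_of_pow_eq_one hep1
      have hk0 : orderOf e = p := by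
        rcases (Nat.dvd_prime hp).mp this with h | h
        · rw [hk] at h
          exact absurd h (Nat.one_lt_pow (Nat.succ_ne_zero k) hp.one_lt).ne'
        · exact h
      have : e₁ = e := by rw [he₁, hk0, Nat.div_self hp.pos, pow_one]
      rw [← hzA0, ← this]
      exact Subgroup.mem_zpowers _
    · exfalso
      have hek : e ^ p ^ (k + 1) = 1 := by rw [← hk]; exact pow_orderOf_eq_one e
      have heC : ∀ a ∈ A, e * a = a * e := c.pelem_centralizes heE hek
      have hzp : IsPGroup p (Subgroup.zpowers e) := by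
        apply IsPGroup.of_card (n := k + 1)
        rw [Nat.card_zpowers, hk]
      have hzN : Subgroup.zpowers e ≤ Subgroup.normalizer (A : Set G) :=
        Subgroup.zpowers_le.mpr (c.E_le_normalizer heE)
      have hsup : IsPGroup p (A ⊔ Subgroup.zpowers e : Subgroup G) :=
        IsPGroup.to_sup_of_normal_left' c.isPGroup_A hzp hzN
      have hle : A ⊔ Subgroup.zpowers e ≤ M :=
        sup_le c.hAM ((Subgroup.zpowers_le.mpr heE).trans c.hEM)
      obtain ⟨S, P, y', j, hBP, hPM, hPS, hyS, hyN, hyM, hyj⟩ :=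
        exists_y_over c hS le_sup_left hle hsup
      have heS : e ∈ (S : Subgroup G) :=
        hPS (hBP (Subgroup.mem_sup_right (Subgroup.mem_zpowers e)))
      have hAS : A ≤ (S : Subgroup G) := (le_sup_left.trans hBP).trans hPS
      have hp2 : p ≠ 2 := Cfsg.Agent.Lib.Helper1.BG10.prime_ne_two c.hG p M c.p_dvd_card
      have hAmax : ∀ B : Subgroup G, Cfsg.IsElementaryAbelian p B → A ≤ B → B = A :=
        Cfsg.Agent.Lib.Helper1.BG10.elemAb_sq_maximal c.hG M c.hM p c.hp.2.1 A c.hAM c.hAe c.hA2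
      have heCA : e ∈ Subgroup.centralizer (A : Set G) := by
        rw [Subgroup.mem_centralizer_iff]
        intro a ha
        exact (heC a ha).symm
      have he₁p : e₁ ^ p = 1 := by rw [← he₁o]; exact pow_orderOf_eq_one e₁
      have hcen := sylow_central h12 hp2 S (hS S) hAS c.hAe c.hA2 hAmax heS heCA hep1 he₁z he₁p
      have h3 : e₁ * y' = y' * e₁ := hcen y' hyS
      obtain ⟨X₀, hX₀A, hX₀, hX₀ne⟩ := c.exists_X0
      have hA0 := c.A0_eq hyN hyM hyj hX₀A hX₀ hX₀ne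
      apply c.X0_not_cent hyN hyM hX₀A hX₀ hX₀ne
      rw [← hA0, ← hzA0]
      rw [Subgroup.zpowers_le]
      rw [Subgroup.mem_centralizer_iff]
      intro z hz
      rw [Set.mem_singleton_iff] at hz
      rw [hz]; exact h3.symm

end Cfsg.Agent.Lib.Helper1.BG12b
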