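import Mathlib
import Cfsg.Agent.Lib.Helper1.BG12b.AbelPre
import Cfsg.Agent.Lib.Helper1.BG12b.NonabOne
import Cfsg.Agent.Lib.Helper18.BGTenB
import Cfsg.Agent.Lib.Helper18.BGTenE
import Cfsg.Agent.Lib.Helper1.BG12.SigmaDisjoint

set_option autoImplicit false

namespace Cfsg.Agent.Lib.Helper1.BG12b

open Cfsg Cfsg.Agent.Lib.Helper18 Cfsg.Agent.Lib.Helper28.BGt
open scoped commutatorElement

variable {G : Type*} [Group G] [Finite G]

theorem sylow_le_derived_normalizer (hG : Cfsg.IsMinSimpleOddOrder G) (p : ℕ) [Fact p.Prime]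
    (P : Sylow p G) :
    (P : Subgroup G) ≤ ⁅Subgroup.normalizer ((P : Subgroup G) : Set G),
      Subgroup.normalizer ((P : Subgroup G) : Set G)⁆ :=
  Cfsg.Agent.Lib.Helper18.BGTenB.sylow_le_normalizer_derived hG
    (fun M _ => Cfsg.Agent.Lib.Helper18.BGTenE.thm36 ↥M) p P

theorem all_sylow_comm {p : ℕ} [Fact p.Prime] (S₀ : Sylow p G)
    (hS₀ : IsMulCommutative (S₀ : Subgroup G)) (S : Sylow p G) :
    ∀ a ∈ (S : Subgroup G), ∀ b ∈ (S : Subgroup G), a * b = b * a := by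
  obtain ⟨g, hg⟩ := MulAction.exists_smul_eq G S₀ S
  intro a ha b hb
  have ha' : a ∈ g • S₀ := by rw [hg]; exact ha
  have hb' : b ∈ g • S₀ := by rw [hg]; exact hb
  rw [mem_smul_sylow_iff] at ha' hb'
  have h := hS₀.is_comm.comm ⟨_, ha'⟩ ⟨_, hb'⟩
  have h2 : (g⁻¹ * a * g) * (g⁻¹ * b * g) = (g⁻¹ * b * g) * (g⁻¹ * a * g) := by
    simpa using congrArg Subtype.val h
  have e1 : a * b = g * ((g⁻¹ * a * g) * (g⁻¹ * b * g)) * g⁻¹ := by group
  have e2 : b * a = g * ((g⁻¹ * b * g) * (g⁻¹ * a * g)) * g⁻¹ := by group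
  rw [e1, e2, h2]

theorem sylow_of_abelian {M E : Subgroup G} {p : ℕ} {A : Subgroup G} (c : Tau2Ctx M E p A)
    [Fact p.Prime] (S₀ : Sylow p G) (hS₀ : IsMulCommutative (S₀ : Subgroup G))
    {P : Subgroup G} (hAP : A ≤ P) (hPM : IsSylowIn p P M) :
    ∃ S : Sylow p G, (S : Subgroup G) = P := by
  obtain ⟨S, hPS⟩ := hPM.isPGroup.exists_le_sylow
  have hcomm := all_sylow_comm S₀ hS₀ S
  have hSM : (S : Subgroup G) ≤ M := by
    refine le_trans ?_ c.cent_le
    intro s hs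
    rw [Subgroup.mem_centralizer_iff]
    intro a ha
    exact hcomm a (hPS (hAP ha)) s hs
  exact ⟨S, hPM.eq_of_le hSM S.isPGroup' hPS⟩

theorem normalizer_A_le_E3 {M E : Subgroup G} {p : ℕ} {A : Subgroup G} (c : Tau2Ctx M E p A)
    {E₃ : Subgroup G} (hE₃ : Cfsg.IsPiHallOf (Cfsg.tau3 M) E₃ E)
    (hn : E ≤ Subgroup.normalizer (E₃ : Set G)) :
    Subgroup.normalizer (A : Set G) ≤ Subgroup.normalizer (E₃ : Set G) := by
  intro g hg
  apply mem_normalizer_of_conjSub_le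
  rintro _ ⟨e, he, rfl⟩
  show (MulAut.conj g).toMonoidHom e ∈ E₃
  simp only [MulEquiv.coe_toMonoidHom, MulAut.conj_apply]
  have heC : e ∈ Subgroup.centralizer (A : Set G) := by
    rw [Subgroup.mem_centralizer_iff]
    intro a ha
    exact (E3_centralizes_A c hE₃ hn he ha).symm
  have h1 : g * e * g⁻¹ ∈ Subgroup.centralizer (A : Set G) := conj_mem_centralizer hg heC
  have h2 : g * e * g⁻¹ ∈ Subgroup.normalizer (A : Set G) :=
    Subgroup.mul_mem _ (Subgroup.mul_mem _ hg (c.E_le_normalizer (hE₃.1 he))) (Subgroup.inv_mem _ hg)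
  have h3 : g * e * g⁻¹ ∈ E := by
    rw [← c.inf_normalizer]
    exact ⟨c.cent_le h1, h2⟩
  apply mem_of_piHall_normal hE₃ hn h3
  intro q hq hqd
  have h4 : orderOf (g * e * g⁻¹) = orderOf e := by
    have := orderOf_injective (MulAut.conj g).toMonoidHom (MulAut.conj g).injective e
    simpa using this
  rw [h4] at hqd
  exact hE₃.2.1 q hq (hqd.trans (Subgroup.orderOf_dvd_natCard E₃ he))

theorem sylow_centralizes_E3 {M E : Subgroup G} {p : ℕ} {A : Subgroup G} (c : Tau2Ctx M E p A)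
    [Fact p.Prime] (S : Sylow p G) (hAS : A ≤ (S : Subgroup G))
    (hSM : IsSylowIn p (S : Subgroup G) M)
    {E₃ : Subgroup G} (hE₃ : Cfsg.IsPiHallOf (Cfsg.tau3 M) E₃ E) (hcyc : IsCyclic E₃)
    (hn : E ≤ Subgroup.normalizer (E₃ : Set G)) :
    (S : Subgroup G) ≤ Subgroup.centralizer (E₃ : Set G) := by
  have h1 := sylow_le_derived_normalizer c.hG p S
  have h2 := c.normalizer_sylow_le hAS hSM
  have h3 := normalizer_A_le_E3 c hE₃ hn
  have h4 := Cfsg.Agent.Lib.Helper21.ZG.commutator_normalizer_cyclic_le hcyc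
  exact h1.trans ((Subgroup.commutator_mono (h2.trans h3) (h2.trans h3)).trans h4)

end Cfsg.Agent.Lib.Helper1.BG12b
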