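import Mathlib
import Cfsg.Agent.Lib.Helper1.BG12b.AbelOne

set_option autoImplicit false

namespace Cfsg.Agent.Lib.Helper1.BG12b

open Cfsg Cfsg.Agent.Lib.Helper18 Cfsg.Agent.Lib.Helper28.BGt
open scoped commutatorElement

variable {G : Type*} [Group G] [Finite G]

theorem dvd_card_of_ne_bot {r : ℕ} [hr : Fact r.Prime] {R : Subgroup G} (hR : IsPGroup r R)
    (hne : R ≠ ⊥) : r ∣ Nat.card R := by
  obtain ⟨n, hn⟩ := IsPGroup.iff_card.mp hR
  have hn0 : n ≠ 0 := by
    rintro rfl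
    rw [pow_zero] at hn
    exact hne (Subgroup.eq_bot_of_card_eq _ hn)
  rw [hn]; exact dvd_pow_self r hn0

theorem prime_eq_of_dvd_orderOf {r : ℕ} [hr : Fact r.Prime] {R : Subgroup G} (hR : IsPGroup r R)
    {x : G} (hx : x ∈ R) {q : ℕ} (hq : q.Prime) (hqd : q ∣ orderOf x) : q = r := by
  obtain ⟨k, hk⟩ := hR ⟨x, hx⟩
  have hk' : x ^ r ^ k = 1 := by simpa using congrArg Subtype.val hk
  have h1 : orderOf x ∣ r ^ k := orderOf_dvd_of_pow_eq_one hk'
  exact (Nat.prime_dvd_prime_iff_eq hq hr.out).mp (hq.dvd_of_dvd_pow (hqd.trans h1))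

theorem derived_centralizes_sylow {M E : Subgroup G} {p : ℕ} {A : Subgroup G}
    (c : Tau2Ctx M E p A) (nc : NC G) [hpf : Fact p.Prime] (S : Sylow p G)
    (hAS : A ≤ (S : Subgroup G))
    (hSE : IsSylowIn p (S : Subgroup G) E) (hSM : IsSylowIn p (S : Subgroup G) M)
    (hScomm : ∀ a ∈ (S : Subgroup G), ∀ b ∈ (S : Subgroup G), a * b = b * a) :
    ⁅E, E⁆ ≤ Subgroup.centralizer ((S : Subgroup G) : Set G) := by
  obtain ⟨hnil, -, -⟩ := Cfsg.Agent.Lib.Helper1.BG12.twelve_one c.hG M c.hM E c.hE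
  obtain ⟨E₃, hE₃, hcyc, -, hn⟩ := exists_E3 c.hG c.hM c.hE
  have hDE : ⁅E, E⁆ ≤ E := Subgroup.commutator_le_self E
  have hEND : E ≤ Subgroup.normalizer ((⁅E, E⁆ : Subgroup G) : Set G) :=
    Subgroup.le_normalizer.trans (Cfsg.Agent.Lib.Helper1.le_normalizer_commutator_self E)
  apply Cfsg.Agent.Lib.Helper1.sylow_le_imp_le
  intro r hr
  obtain ⟨R'⟩ : Nonempty (Sylow r ↥⁅E, E⁆) := inferInstance
  refine ⟨R', ?_⟩
  obtain ⟨R, hRdef⟩ : ∃ R : Subgroup G, R = (R' : Subgroup ↥⁅E, E⁆).map (Subgroup.subtype _) :=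
    ⟨_, rfl⟩
  rw [← hRdef]
  have hRS : IsSylowIn r R ⁅E, E⁆ := hRdef ▸ isSylowIn_of_sylow R'
  have hRn : E ≤ Subgroup.normalizer (R : Set G) :=
    Cfsg.Agent.Lib.Helper1.BG12.sylow_normal_of_nilpotent _ R r hnil hRS E hEND
  have hRE : R ≤ E := hRS.le.trans hDE
  by_cases hR1 : R = ⊥
  · rw [hR1]; exact bot_le
  have hrR : r ∣ Nat.card R := dvd_card_of_ne_bot hRS.isPGroup hR1
  have hrE : r ∣ Nat.card E := hrR.trans (Subgroup.card_dvd_of_le hRE)
  rcases prime_tau c.hG c.hM c.hE hr.out hrE with hτ | hτ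
  · rcases hτ with h1 | h3
    · exfalso
      apply h1.2.2.2.1
      have hRM : R ≤ ⁅M, M⁆ := hRS.le.trans (Subgroup.commutator_mono c.hEM c.hEM)
      exact hrR.trans (Subgroup.card_dvd_of_le hRM)
    · have hS3 := sylow_centralizes_E3 c S hAS hSM hE₃ hcyc hn
      intro x hx
      have hx3 : x ∈ E₃ := by
        apply mem_of_piHall_normal hE₃ hn (hRE hx)
        intro q hq hqd
        rw [prime_eq_of_dvd_orderOf hRS.isPGroup hx hq hqd]
        exact h3
      rw [Subgroup.mem_centralizer_iff]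
      intro s hs
      exact ((Subgroup.mem_centralizer_iff.mp (hS3 hs)) x hx3).symm
  · by_cases hrp : r = p
    · subst hrp
      have hRS' : R ≤ (S : Subgroup G) :=
        normal_pgroup_le_sylow hSE hRE hRS.isPGroup (hSE.le.trans hRn)
      intro x hx
      rw [Subgroup.mem_centralizer_iff]
      intro s hs
      exact hScomm s hs x (hRS' hx)
    · obtain ⟨B, hBE, hBe, hB2⟩ := exists_sq_le_compl c.hG c.hM c.hE hτ
      have c' : Tau2Ctx M E r B := ⟨c.hG, c.h16, c.h17, c.hM, c.hE, hτ, hBE, hBe, hB2⟩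
      obtain ⟨P', hBP', hP'E, hP'M⟩ := c'.exists_sylow
      obtain ⟨hcomm', hOm', -⟩ := c'.sylow_data hBP' hP'M
      have hRP' : R ≤ P' := normal_pgroup_le_sylow hP'E hRE hRS.isPGroup (hP'E.le.trans hRn)
      intro x hx
      rw [Subgroup.mem_centralizer_iff]
      intro s hs
      obtain ⟨k, hk⟩ := S.isPGroup' ⟨s, hs⟩
      have hk' : s ^ p ^ k = 1 := by simpa using congrArg Subtype.val hk
      have hcop : (orderOf s).Coprime r := by
        have h1 : orderOf s ∣ p ^ k := orderOf_dvd_of_pow_eq_one hk'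
        apply Nat.Coprime.coprime_dvd_left h1
        apply Nat.Coprime.pow_left
        exact (Nat.coprime_primes hpf.out hr.out).mpr (fun h => hrp h.symm)
      have hsB := c'.cross nc c (fun h => hrp h.symm) (hSE.le hs) hk'
      exact cent_of_cent_omega hRS.isPGroup
        (fun a ha b hb => hcomm' a (hRP' ha) b (hRP' hb)) (hRn (hSE.le hs)) hcop
        (fun w hw hwr => hsB w ((hOm' w (hRP' hw)).mp hwr)) x hx

theorem sylow_normal_abel {M E : Subgroup G} {p : ℕ} {A : Subgroup G}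
    (c : Tau2Ctx M E p A) (nc : NC G) [hpf : Fact p.Prime] (S : Sylow p G)
    (hAS : A ≤ (S : Subgroup G))
    (hSE : IsSylowIn p (S : Subgroup G) E) (hSM : IsSylowIn p (S : Subgroup G) M)
    (hScomm : ∀ a ∈ (S : Subgroup G), ∀ b ∈ (S : Subgroup G), a * b = b * a) :
    E ≤ Subgroup.normalizer ((S : Subgroup G) : Set G) := by
  have hD := derived_centralizes_sylow c nc S hAS hSE hSM hScomm
  have hDE : ⁅E, E⁆ ≤ E := Subgroup.commutator_le_self E
  intro e he
  obtain ⟨T, hT⟩ : ∃ T : Subgroup G, T = (S : Subgroup G) ⊔ ⁅E, E⁆ := ⟨_, rfl⟩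
  have hTE : T ≤ E := hT ▸ sup_le hSE.le hDE
  have hSC : (S : Subgroup G) ≤ Subgroup.centralizer ((S : Subgroup G) : Set G) := by
    intro s hs
    rw [Subgroup.mem_centralizer_iff]
    intro t ht
    exact hScomm t ht s hs
  have hTC : T ≤ Subgroup.centralizer ((S : Subgroup G) : Set G) := hT ▸ sup_le hSC hD
  have hST : IsSylowIn p (S : Subgroup G) T := hSE.of_le (hT ▸ le_sup_left) hTE
  have hconj : conjSub e (S : Subgroup G) ≤ T := by
    rintro _ ⟨s, hs, rfl⟩
    show (MulAut.conj e).toMonoidHom s ∈ T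
    simp only [MulEquiv.coe_toMonoidHom, MulAut.conj_apply]
    have e1 : e * s * e⁻¹ = (e * s * e⁻¹ * s⁻¹) * s := by group
    rw [e1, hT]
    exact Subgroup.mul_mem _
      (Subgroup.mem_sup_right (Subgroup.commutator_mem_commutator he (hSE.le hs)))
      (Subgroup.mem_sup_left hs)
  obtain ⟨t, ht, hle⟩ := hST.exists_conj_le hconj (conjSub_isPGroup S.isPGroup')
  rw [conjSub_mul] at hle
  have htN : t ∈ Subgroup.normalizer ((S : Subgroup G) : Set G) :=
    Subgroup.centralizer_le_normalizer _ (hTC ht)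
  have h1 : t * e ∈ Subgroup.normalizer ((S : Subgroup G) : Set G) :=
    mem_normalizer_of_conjSub_le hle
  have e2 : e = t⁻¹ * (t * e) := by group
  rw [e2]
  exact Subgroup.mul_mem _ (Subgroup.inv_mem _ htN) h1

end Cfsg.Agent.Lib.Helper1.BG12b
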