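import Mathlib
import Cfsg.Agent.Lib.helper23.MaschkeGrp

set_option autoImplicit false

namespace Cfsg.Agent.Lib.Helper1.BG12b

universe u v

section Abs

variable {Γ : Type v} [Group Γ]

def resAut {W : Type u} [Group W] (φ : Γ →* MulAut W) (T : Subgroup W)
    (hT : ∀ g x, x ∈ T → φ g x ∈ T) : Γ →* MulAut ↥T where
  toFun g :=
    { toFun := fun x => ⟨φ g x, hT g x x.2⟩
      invFun := fun x => ⟨φ g⁻¹ x, hT g⁻¹ x x.2⟩
      left_inv := fun x => by
        apply Subtype.ext
        show φ g⁻¹ (φ g x) = x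
        rw [← MulAut.mul_apply, ← map_mul, inv_mul_cancel, map_one, MulAut.one_apply]
      right_inv := fun x => by
        apply Subtype.ext
        show φ g (φ g⁻¹ x) = x
        rw [← MulAut.mul_apply, ← map_mul, mul_inv_cancel, map_one, MulAut.one_apply]
      map_mul' := fun x y => by
        apply Subtype.ext
        show φ g (x * y) = φ g x * φ g y
        exact map_mul _ _ _ }
  map_one' := by
    apply MulEquiv.ext
    intro x
    apply Subtype.ext
    show φ 1 x = x
    rw [map_one, MulAut.one_apply]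
  map_mul' := fun g h => by
    apply MulEquiv.ext
    intro x
    apply Subtype.ext
    show φ (g * h) x = φ g (φ h x)
    rw [map_mul, MulAut.mul_apply]

theorem resAut_coe {W : Type u} [Group W] (φ : Γ →* MulAut W) (T : Subgroup W)
    (hT : ∀ g x, x ∈ T → φ g x ∈ T) (g : Γ) (x : ↥T) :
    ((resAut φ T hT g x : ↥T) : W) = φ g (x : W) := rfl

theorem mem_zpowers_of_card_prime {W : Type u} [Group W] {p : ℕ} [hp : Fact p.Prime]
    {X : Subgroup W} (hX : Nat.card X = p) {g : W} (hg : g ∈ X) (hg1 : g ≠ 1) {x : W}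
    (hx : x ∈ X) : x ∈ Subgroup.zpowers g := by
  have h1 : (⟨x, hx⟩ : X) ∈ Subgroup.zpowers (⟨g, hg⟩ : X) :=
    mem_zpowers_of_prime_card hX (fun h => hg1 (congrArg Subtype.val h))
  obtain ⟨i, hi⟩ := Subgroup.mem_zpowers_iff.mp h1
  refine Subgroup.mem_zpowers_iff.mpr ⟨i, ?_⟩
  have := congrArg Subtype.val hi
  simpa using this

theorem exists_inv_cyclic [Finite Γ] (p : ℕ) [hp : Fact p.Prime]
    (hcop : (Nat.card Γ).Coprime p) (a : ℕ) :
    ∀ (n : ℕ) (W : Type u) [CommGroup W] [Finite W] (φ : Γ →* MulAut W), Nat.card W = n →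
      (∀ x : W, x ^ p ^ (a + 1) = 1) →
      ∀ X : Subgroup W, Nat.card X = p → (∀ x : W, x ^ p ^ a ∈ X) → (∃ y : W, y ^ p ^ a ≠ 1) →
      ∃ P₀ : Subgroup W, (∀ g x, x ∈ P₀ → φ g x ∈ P₀) ∧ IsCyclic P₀ ∧
        Nat.card P₀ = p ^ (a + 1) := by
  intro n
  induction n using Nat.strong_induction_on with
  | _ n ih =>
    intro W _ _ φ hn hexp X hX hpow hy
    obtain ⟨y, hy⟩ := hy
    letI act : MulDistribMulAction Γ W := MulDistribMulAction.compHom W φ
    have hsmul : ∀ (g : Γ) (x : W), g • x = φ g x := fun g x => rfl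
    obtain ⟨K₀, hK₀⟩ : ∃ K₀ : Subgroup W, K₀ = (powMonoidHom (p ^ a) : W →* W).ker := ⟨_, rfl⟩
    obtain ⟨N, hNdef⟩ : ∃ N : Subgroup W, N = (powMonoidHom p : W →* W).range := ⟨_, rfl⟩
    have hmemK : ∀ x : W, x ∈ K₀ ↔ x ^ p ^ a = 1 := by
      intro x; rw [hK₀, MonoidHom.mem_ker]; rfl
    have hmemN : ∀ x : W, x ∈ N ↔ ∃ z : W, z ^ p = x := by
      intro x; rw [hNdef, MonoidHom.mem_range]; rfl
    have hN : ∀ g : Γ, ∀ x ∈ N, g • x ∈ N := by
      intro g x hx
      obtain ⟨z, rfl⟩ := (hmemN x).mp hx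
      exact (hmemN _).mpr ⟨g • z, (smul_pow' g z p).symm⟩
    have hK : ∀ g : Γ, ∀ x ∈ K₀, g • x ∈ K₀ := by
      intro g x hx
      rw [hmemK] at hx ⊢
      rw [← smul_pow', hx, smul_one]
    have hcomm : ∀ x y : W, (x * y)⁻¹ * (y * x) ∈ N := by
      intro x y
      rw [mul_comm y x, inv_mul_cancel]
      exact N.one_mem
    have hexpN : ∀ x : W, x ^ p ∈ N := fun x => (hmemN _).mpr ⟨x, rfl⟩
    obtain ⟨L, hNL, hLinv, hinf, hsup⟩ :=
      Cfsg.Agent.Lib.helper23.exists_invariant_supplement (A := Γ) (G := W) N hN p hcomm hexpN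
        hcop K₀ hK
    have hyX : y ^ p ^ a ∈ X := hpow y
    by_cases hL : L = ⊤
    · have hK₀N : K₀ ≤ N := by
        rw [hL, inf_top_eq] at hinf; exact hinf
      have key : ∀ k : ℕ, ∀ x : W, ∃ (i : ℤ) (w : W), x = y ^ i * w ^ p ^ k := by
        intro k
        induction k with
        | zero =>
          intro x
          exact ⟨0, x, by simp⟩
        | succ k ihk =>
          intro x
          obtain ⟨i, w, hx⟩ := ihk x
          obtain ⟨j, hj⟩ := Subgroup.mem_zpowers_iff.mp
            (mem_zpowers_of_card_prime hX hyX hy (hpow w))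
          have h1 : w * y ^ (-j) ∈ K₀ := by
            rw [hmemK, mul_pow, ← hj, ← zpow_natCast (y ^ (-j)), ← zpow_mul, ← zpow_natCast,
              ← zpow_mul, ← zpow_add]
            have : (p ^ a : ℕ) * j + -j * ((p ^ a : ℕ) : ℤ) = 0 := by ring
            rw [this, zpow_zero]
          obtain ⟨v, hv⟩ := (hmemN _).mp (hK₀N h1)
          refine ⟨i + j * ((p ^ k : ℕ) : ℤ), v, ?_⟩
          have h2 : w = y ^ j * v ^ p := by
            rw [hv, mul_comm, mul_assoc, ← zpow_add]
            simp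
          rw [hx, h2, mul_pow, ← pow_mul, ← pow_succ', ← zpow_natCast (y ^ j), ← zpow_mul,
            ← mul_assoc, ← zpow_add]
      have htop : ∀ x : W, x ∈ Subgroup.zpowers y := by
        intro x
        obtain ⟨i, w, hx⟩ := key (a + 1) x
        rw [hx, hexp w, mul_one]
        exact Subgroup.zpow_mem _ (Subgroup.mem_zpowers y) i
      refine ⟨Subgroup.zpowers y, fun g x _ => htop _, inferInstance, ?_⟩
      rw [Nat.card_zpowers]
      exact orderOf_eq_prime_pow hy (hexp y)
    · have hlt : Nat.card L < n := by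
        rw [← hn]
        apply lt_of_le_of_ne (Subgroup.card_le_card_group L)
        intro h
        exact hL ((Subgroup.card_eq_iff_eq_top L).mp h)
      have hyS : y ∈ K₀ ⊔ L := by rw [hsup]; exact Subgroup.mem_top y
      obtain ⟨k, hk, l, hl, hkl⟩ := Subgroup.mem_sup.mp hyS
      have hl1 : l ^ p ^ a ≠ 1 := by
        intro h
        apply hy
        rw [← hkl, mul_pow, h, (hmemK k).mp hk, mul_one]
      have hXL : X ≤ L := by
        intro x hx
        obtain ⟨i, hi⟩ := Subgroup.mem_zpowers_iff.mp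
          (mem_zpowers_of_card_prime hX (hpow l) hl1 hx)
        rw [← hi]
        exact L.zpow_mem (L.pow_mem hl _) i
      have hLinv' : ∀ g x, x ∈ L → φ g x ∈ L := fun g x hx => hLinv g x hx
      have hcardXL : Nat.card (X.subgroupOf L) = p := by
        rw [← hX]
        exact Nat.card_congr (Subgroup.subgroupOfEquivOfLe hXL).toEquiv
      obtain ⟨P₀', hinv', hcyc', hcard'⟩ := ih (Nat.card L) hlt ↥L (resAut φ L hLinv') rfl
        (fun x => Subtype.ext (by simpa using hexp (x : W)))
        (X.subgroupOf L) hcardXL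
        (fun x => by
          rw [Subgroup.mem_subgroupOf]
          simpa using hpow (x : W))
        ⟨⟨l, hl⟩, fun h => hl1 (by simpa using congrArg Subtype.val h)⟩
      refine ⟨P₀'.map L.subtype, ?_, ?_, ?_⟩
      · rintro g _ ⟨x', hx', rfl⟩
        exact ⟨resAut φ L hLinv' g x', hinv' g x' hx', rfl⟩
      · exact (P₀'.equivMapOfInjective L.subtype L.subtype_injective).isCyclic.mp hcyc'
      · rw [Subgroup.card_map_of_injective L.subtype_injective, hcard']

end Abs

end Cfsg.Agent.Lib.Helper1.BG12b
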