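import Mathlib
import Cfsg.Agent.Lib.Helper1.NormIdentity

set_option autoImplicit false

namespace Cfsg.Agent.Lib.Helper1.BG12b

open Cfsg.Agent.Lib.Helper1

theorem schur_cyclic {W : Type*} [CommGroup W] (q : ℕ) [Fact q.Prime] {α β υ : MulAut W}
    (hα : α ^ q = 1) (hβ : β ^ q = 1) (hβ1 : β ≠ 1) (hαβ : Commute α β) (hυα : Commute υ α)
    (hυβ : Commute υ β)
    (hirr : ∀ K : Subgroup W, (∀ x ∈ K, υ x ∈ K) → K = ⊥ ∨ K = ⊤)
    (hq : ∃ x : W, x ^ q ≠ 1) : ∃ j : ℕ, α * β ^ j = 1 := by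
  have hfix : ∀ γ : MulAut W, Commute υ γ → γ ≠ 1 → fixSubgroup γ = ⊥ := by
    intro γ hc hγ
    rcases hirr (fixSubgroup γ) (fun x hx => by
      rw [mem_fixSubgroup] at hx ⊢
      have h1 : (υ * γ) x = (γ * υ) x := by rw [hc.eq]
      rw [MulAut.mul_apply, MulAut.mul_apply, hx] at h1
      exact h1.symm) with h | h
    · exact h
    · exfalso
      apply hγ
      apply MulEquiv.ext
      intro x
      have : x ∈ fixSubgroup γ := by rw [h]; exact Subgroup.mem_top x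
      exact (mem_fixSubgroup γ x).mp this
  by_contra hno
  push Not at hno
  obtain ⟨x, hx⟩ := hq
  have h1 := pow_mem_iSup_fix q hα hβ hαβ x
  have h2 : (⨆ j : ZMod q, fixSubgroup (α * β ^ j.val)) ⊔ fixSubgroup β = ⊥ := by
    rw [hfix β hυβ hβ1, sup_bot_eq]
    apply le_antisymm _ bot_le
    apply iSup_le
    intro j
    rw [hfix _ (hυα.mul_right (hυβ.pow_right j.val)) (hno j.val)]
  rw [h2, Subgroup.mem_bot] at h1
  exact hx h1

end Cfsg.Agent.Lib.Helper1.BG12b
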