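import Mathlib
import Cfsg.Agent.Lib.Helper1.BG12b.AbelTwo
import Cfsg.Agent.Lib.Helper11.ExcF

set_option autoImplicit false

namespace Cfsg.Agent.Lib.Helper1.BG12b

open Cfsg Cfsg.Agent.Lib.Helper18 Cfsg.Agent.Lib.Helper28.BGt
open scoped commutatorElement

variable {G : Type*} [Group G] [Finite G]

theorem card_sup_of_le_normalizer {H K : Subgroup G}
    (hn : H ≤ Subgroup.normalizer (K : Set G)) :
    Nat.card (H ⊔ K : Subgroup G) = Nat.card H * H.relIndex K := by
  have h1 := Cfsg.Agent.Lib.Helper1.BG12.card_mul_relIndex_of_le (le_sup_left : H ≤ H ⊔ K)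
  rw [relIndex_sup_of_le_normalizer H K hn] at h1
  exact h1.symm

theorem card_sup_dvd {H K : Subgroup G} (hn : H ≤ Subgroup.normalizer (K : Set G)) :
    Nat.card (H ⊔ K : Subgroup G) ∣ Nat.card H * Nat.card K := by
  rw [card_sup_of_le_normalizer hn]
  exact Nat.mul_dvd_mul_left _ (Subgroup.relIndex_dvd_card _ _)

theorem card_sup_of_inf_eq_bot {H K : Subgroup G}
    (hn : H ≤ Subgroup.normalizer (K : Set G)) (hinf : H ⊓ K = ⊥) :
    Nat.card (H ⊔ K : Subgroup G) = Nat.card H * Nat.card K := by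
  rw [card_sup_of_le_normalizer hn, ← Subgroup.inf_relIndex_right, hinf,
    Subgroup.relIndex_bot_left]

theorem le_normal_sylow {q : ℕ} [Fact q.Prime] {P H R : Subgroup G} (hP : IsSylowIn q P H)
    (hn : H ≤ Subgroup.normalizer (P : Set G)) (hRH : R ≤ H) (hR : IsPGroup q R) : R ≤ P := by
  obtain ⟨x, hx, hle⟩ := hP.exists_conj_le hRH hR
  rw [conjSub_le_iff, conjSub_eq_of_mem_normalizer (hn (H.inv_mem hx))] at hle
  exact hle

theorem derived_centralizes_A {M E : Subgroup G} {p : ℕ} {A : Subgroup G}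
    (c : Tau2Ctx M E p A) (nc : NC G) : ⁅E, E⁆ ≤ Subgroup.centralizer (A : Set G) := by
  obtain ⟨hnil, -, -⟩ := Cfsg.Agent.Lib.Helper1.BG12.twelve_one c.hG M c.hM E c.hE
  obtain ⟨E₃, hE₃, hcyc, -, hn⟩ := exists_E3 c.hG c.hM c.hE
  have hDE : ⁅E, E⁆ ≤ E := Subgroup.commutator_le_self E
  apply Cfsg.Agent.Lib.Helper1.sylow_le_imp_le
  intro r hr
  obtain ⟨R'⟩ : Nonempty (Sylow r ↥⁅E, E⁆) := inferInstance
  refine ⟨R', ?_⟩
  obtain ⟨R, hRdef⟩ : ∃ R : Subgroup G, R = (R' : Subgroup ↥⁅E, E⁆).map (Subgroup.subtype _) :=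
    ⟨_, rfl⟩
  rw [← hRdef]
  have hRS : IsSylowIn r R ⁅E, E⁆ := hRdef ▸ isSylowIn_of_sylow R'
  have hRE : R ≤ E := hRS.le.trans hDE
  by_cases hR1 : R = ⊥
  · rw [hR1]; exact bot_le
  have hrR : r ∣ Nat.card R := dvd_card_of_ne_bot hRS.isPGroup hR1
  have hrE : r ∣ Nat.card E := hrR.trans (Subgroup.card_dvd_of_le hRE)
  rcases prime_tau c.hG c.hM c.hE hr.out hrE with hτ | hτ
  · rcases hτ with h1 | h3
    · exfalso
      apply h1.2.2.2.1
      have hRM : R ≤ ⁅M, M⁆ := hRS.le.trans (Subgroup.commutator_mono c.hEM c.hEM)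
      exact hrR.trans (Subgroup.card_dvd_of_le hRM)
    · intro x hx
      have hx3 : x ∈ E₃ := by
        apply mem_of_piHall_normal hE₃ hn (hRE hx)
        intro q hq hqd
        rw [prime_eq_of_dvd_orderOf hRS.isPGroup hx hq hqd]
        exact h3
      rw [Subgroup.mem_centralizer_iff]
      intro a ha
      exact (E3_centralizes_A c hE₃ hn hx3 ha).symm
  · intro x hx
    obtain ⟨k, hk⟩ := hRS.isPGroup ⟨x, hx⟩
    have hk' : x ^ r ^ k = 1 := by simpa using congrArg Subtype.val hk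
    rw [Subgroup.mem_centralizer_iff]
    intro a ha
    exact (c.qelem_centralizes nc hτ (hRE hx) hk' a ha).symm

theorem regular_of_sup {M E : Subgroup G} {p : ℕ} {A : Subgroup G} (c : Tau2Ctx M E p A)
    (hA₀ : A ⊓ Subgroup.centralizer (Cfsg.sigmaCore M : Set G) ≠ ⊥) {X : Subgroup G}
    (hsup : (A ⊓ Subgroup.centralizer (Cfsg.sigmaCore M : Set G)) ⊔ X = A) :
    Cfsg.sigmaCore M ⊓ Subgroup.centralizer (X : Set G) = ⊥ := by
  have hpf := c.fact
  by_contra hne
  obtain ⟨⟨y, hy⟩, hy1'⟩ := (Subgroup.ne_bot_iff_exists_ne_one).mp hne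
  have hy1 : y ≠ 1 := fun h => hy1' (Subtype.ext h)
  obtain ⟨⟨z, hz⟩, hz1'⟩ := (Subgroup.ne_bot_iff_exists_ne_one).mp hA₀
  have hz1 : z ≠ 1 := fun h => hz1' (Subtype.ext h)
  have hyA : y ∈ Subgroup.centralizer (A : Set G) := by
    rw [← hsup]
    rw [Subgroup.mem_centralizer_iff]
    intro w hw
    have hw' : w ∈ Subgroup.closure
        (((A ⊓ Subgroup.centralizer (Cfsg.sigmaCore M : Set G) : Subgroup G) : Set G) ∪
          (X : Set G)) := by
      rw [Subgroup.closure_union, Subgroup.closure_eq, Subgroup.closure_eq]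
      exact hw
    have hyC : y ∈ Subgroup.centralizer
        (((A ⊓ Subgroup.centralizer (Cfsg.sigmaCore M : Set G) : Subgroup G) : Set G) ∪
          (X : Set G)) := by
      rw [Subgroup.mem_centralizer_iff]
      rintro v (hv | hv)
      · exact ((Subgroup.mem_centralizer_iff.mp hv.2) y hy.1).symm
      · exact (Subgroup.mem_centralizer_iff.mp hy.2) v hv
    have := Subgroup.closure_le_centralizer_centralizer
      (((A ⊓ Subgroup.centralizer (Cfsg.sigmaCore M : Set G) : Subgroup G) : Set G) ∪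
          (X : Set G)) hw'
    exact ((Subgroup.mem_centralizer_iff.mp this) y hyC).symm
  have hzp : z ^ p = 1 := c.hAe.2 z hz.1
  have hcz : Nat.card (Subgroup.zpowers z) = p := card_zpowers_of_pow_prime hz1 hzp
  have hzA : Subgroup.zpowers z ≤ A := Subgroup.zpowers_le.mpr hz.1
  have hznr : Cfsg.sigmaCore M ⊓ Subgroup.centralizer (Subgroup.zpowers z : Set G) ≠ ⊥ := by
    intro h
    have h2 : y ∈ Cfsg.sigmaCore M ⊓ Subgroup.centralizer (Subgroup.zpowers z : Set G) := by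
      refine ⟨hy.1, ?_⟩
      apply centralizer_singleton_le_zpowers z
      rw [Subgroup.mem_centralizer_iff]
      intro v hv
      rw [Set.mem_singleton_iff] at hv
      rw [hv]
      exact ((Subgroup.mem_centralizer_iff.mp hz.2) y hy.1).symm
    rw [h, Subgroup.mem_bot] at h2
    exact hy1 h2
  obtain ⟨g, hgN, hgM⟩ := SetLike.not_le_iff_exists.mp c.normalizer_not_le
  have hfpf := c.conj_fpf hzA hcz hznr hgN hgM
  have hle : conjSub g (Subgroup.zpowers z) ≤ A := by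
    have := conjSub_mono (g := g) hzA
    rwa [conjSub_eq_of_mem_normalizer hgN] at this
  have h3 : y ∈ Cfsg.sigmaCore M ⊓
      Subgroup.centralizer (conjSub g (Subgroup.zpowers z) : Set G) :=
    ⟨hy.1, Subgroup.centralizer_le hle hyA⟩
  rw [hfpf, Subgroup.mem_bot] at h3
  exact hy1 h3

theorem card_A0 {M E : Subgroup G} {p : ℕ} {A : Subgroup G} (c : Tau2Ctx M E p A)
    (hA₀ : A ⊓ Subgroup.centralizer (Cfsg.sigmaCore M : Set G) ≠ ⊥) :
    Nat.card ↥(A ⊓ Subgroup.centralizer (Cfsg.sigmaCore M : Set G)) = p := by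
  have hpf := c.fact
  have hdvd : Nat.card ↥(A ⊓ Subgroup.centralizer (Cfsg.sigmaCore M : Set G)) ∣ p ^ 2 := by
    rw [← c.hA2]
    exact Subgroup.card_dvd_of_le inf_le_left
  obtain ⟨m, hm, hcard⟩ := (Nat.dvd_prime_pow c.prime).mp hdvd
  have hm0 : m ≠ 0 := by
    rintro rfl
    rw [pow_zero] at hcard
    exact hA₀ (Subgroup.eq_bot_of_card_eq _ hcard)
  have hm2 : m ≠ 2 := by
    rintro rfl
    have heq : A ⊓ Subgroup.centralizer (Cfsg.sigmaCore M : Set G) = A := by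
      apply Subgroup.eq_of_le_of_card_ge inf_le_left
      rw [hcard, c.hA2]
    have h1 := regular_of_sup c hA₀ (X := ⊥) (by rw [sup_bot_eq]; exact heq)
    apply c.sigmaCore_ne_bot
    rw [eq_bot_iff]
    intro y hy
    rw [← h1]
    refine ⟨hy, ?_⟩
    show y ∈ Subgroup.centralizer (((⊥ : Subgroup G) : Subgroup G) : Set G)
    rw [Subgroup.mem_centralizer_iff]
    intro v hv
    have : v = 1 := Subgroup.mem_bot.mp hv
    rw [this]; simp
  have : m = 1 := by omega
  rw [hcard, this, pow_one]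

theorem prime_order_centralizes {M E : Subgroup G} {p : ℕ} {A : Subgroup G}
    (c : Tau2Ctx M E p A)
    (hA₀ : A ⊓ Subgroup.centralizer (Cfsg.sigmaCore M : Set G) = ⊥) {x : G} (hxE : x ∈ E)
    {r : ℕ} (hr : r.Prime) (hxo : orderOf x = r) (hrp : r ≠ p)
    (hreg : Cfsg.sigmaCore M ⊓ Subgroup.centralizer ({x} : Set G) = ⊥) :
    ∀ a ∈ A, x * a = a * x := by
  have hpf := c.fact
  have hp2 : p ≠ 2 := Cfsg.Agent.Lib.Helper1.BG10.prime_ne_two c.hG p M c.p_dvd_card
  have hxN : x ∈ Subgroup.normalizer (Cfsg.sigmaCore M : Set G) :=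
    le_normalizer_sigmaCore M (c.hEM hxE)
  have hxr : x ^ r = 1 := by rw [← hxo]; exact pow_orderOf_eq_one x
  have hfpf : ∀ n ∈ Cfsg.sigmaCore M, x * n = n * x → n = 1 := by
    intro n hn hxn
    have := mem_inf_centralizer_singleton hn hxn
    rw [hreg, Subgroup.mem_bot] at this
    exact this
  have hrE : r ∣ Nat.card E := by
    rw [← hxo]; exact Subgroup.orderOf_dvd_natCard E hxE
  have hrσ : ¬ r ∣ Nat.card (Cfsg.sigmaCore M) := fun h =>
    compl_prime_not_sigma c.hG c.hM c.hE hr hrE (prime_sigmaCore c.hG c.hM hr h)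
  have key := Cfsg.Agent.Lib.Helper11.ExcF.comm_centralizes_nilpotent p r c.prime hr
    (fun h => hrp h.symm) hp2 (Cfsg.sigmaCore M) c.t17.1 x hxN hxr hfpf c.not_dvd_sigmaCore hrσ
    A c.isPGroup_A (c.hAM.trans (le_normalizer_sigmaCore M)) (c.E_le_normalizer hxE)
  intro a ha
  have h1 := key a ha
  have h2 : x * a * x⁻¹ * a⁻¹ ∈ A :=
    A.mul_mem (conj_mem_of_le_normalizer c.E_le_normalizer hxE ha) (A.inv_mem ha)
  have h3 : x * a * x⁻¹ * a⁻¹ ∈ A ⊓ Subgroup.centralizer (Cfsg.sigmaCore M : Set G) := ⟨h2, h1⟩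
  rw [hA₀, Subgroup.mem_bot] at h3
  have : x * a = (x * a * x⁻¹ * a⁻¹) * (a * x) := by group
  rw [this, h3, one_mul]

def scal (A : Subgroup G) : Subgroup G :=
  ⨅ (X : Subgroup G) (_ : X ≤ A), Subgroup.normalizer (X : Set G)

omit [Finite G] in
theorem mem_scal {A : Subgroup G} {g : G} :
    g ∈ scal A ↔ ∀ X : Subgroup G, X ≤ A → g ∈ Subgroup.normalizer (X : Set G) := by
  unfold scal
  simp only [Subgroup.mem_iInf]

omit [Finite G] in
theorem centralizer_le_scal (A : Subgroup G) : Subgroup.centralizer (A : Set G) ≤ scal A := by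
  intro g hg
  rw [mem_scal]
  intro X hX
  exact Subgroup.centralizer_le_normalizer _ (Subgroup.centralizer_le hX hg)

theorem exists_regular_line {M E : Subgroup G} {p : ℕ} {A : Subgroup G} (c : Tau2Ctx M E p A) :
    ∃ X : Subgroup G, X ≤ A ∧ Nat.card X = p ∧
      Cfsg.sigmaCore M ⊓ Subgroup.centralizer (X : Set G) = ⊥ := by
  obtain ⟨X₀, hX₀A, hX₀, hX₀ne⟩ := c.exists_X0
  obtain ⟨g, hgN, hgM⟩ := SetLike.not_le_iff_exists.mp c.normalizer_not_le
  refine ⟨conjSub g X₀, ?_, ?_, c.conj_fpf hX₀A hX₀ hX₀ne hgN hgM⟩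
  · have := conjSub_mono (g := g) hX₀A
    rwa [conjSub_eq_of_mem_normalizer hgN] at this
  · rw [card_conjSub, hX₀]

end Cfsg.Agent.Lib.Helper1.BG12b
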