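import Mathlib
import Cfsg.Agent.Lib.Helper1.BG12b.RegLineA
import Cfsg.Agent.Lib.Helper28.BGtJ

set_option autoImplicit false

namespace Cfsg.Agent.Lib.Helper1.BG12b

open Cfsg Cfsg.Agent.Lib.Helper18 Cfsg.Agent.Lib.Helper28.BGt
open scoped commutatorElement

variable {G : Type*} [Group G] [Finite G]

def T1427 (G : Type*) [Group G] [Finite G] : Prop :=
  ∀ (M E : Subgroup G), IsCoatom M → Cfsg.IsComplIn E (Cfsg.sigmaCore M) M →
    ∀ (p : ℕ) [Fact p.Prime] (S : Subgroup G), IsSylowIn p S E → IsCyclic S →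
    ∀ y ∈ S, orderOf y = p →
      Cfsg.sigmaCore M ⊓ Subgroup.centralizer ({y} : Set G) ≤ Subgroup.centralizer (S : Set G)

theorem exists_qpart_nonscalar {A : Subgroup G} {f : G} (hfs : f ∉ scal A) :
    ∃ (q : ℕ) (u : G) (k : ℕ), q.Prime ∧ u ∈ Subgroup.zpowers f ∧ u ^ q ^ k = 1 ∧
      u ∉ scal A := by
  by_contra hcon
  push Not at hcon
  apply hfs
  have hle : Subgroup.zpowers f ≤ scal A := by
    apply Cfsg.Agent.Lib.Helper1.sylow_le_imp_le
    intro q hq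
    obtain ⟨Q'⟩ : Nonempty (Sylow q ↥(Subgroup.zpowers f)) := inferInstance
    refine ⟨Q', ?_⟩
    rintro _ ⟨y, hy, rfl⟩
    obtain ⟨k, hk⟩ := Q'.isPGroup' ⟨y, hy⟩
    have hk' : (y : G) ^ q ^ k = 1 := by
      simpa using congrArg Subtype.val (congrArg Subtype.val hk)
    exact hcon q y k hq.out y.2 hk'
  exact hle (Subgroup.mem_zpowers f)

theorem sigma_sylow_global (hG : Cfsg.IsMinSimpleOddOrder G) {H : Subgroup G} (hH : IsCoatom H)
    {p : ℕ} [hp : Fact p.Prime] (hpσ : p ∈ Cfsg.sigma H)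
    (hnil : Group.IsNilpotent (Cfsg.sigmaCore H)) :
    ∃ S : Sylow p G, (S : Subgroup G) ≤ Cfsg.sigmaCore H ∧
      H ≤ Subgroup.normalizer ((S : Subgroup G) : Set G) ∧
      ∀ R : Subgroup G, R ≤ H → IsPGroup p R → R ≤ (S : Subgroup G) := by
  obtain ⟨P'⟩ : Nonempty (Sylow p ↥(Cfsg.sigmaCore H)) := inferInstance
  obtain ⟨P, hPdef⟩ : ∃ P : Subgroup G,
    P = (P' : Subgroup ↥(Cfsg.sigmaCore H)).map (Subgroup.subtype _) := ⟨_, rfl⟩
  have hSyl : IsSylowIn p P (Cfsg.sigmaCore H) := hPdef ▸ isSylowIn_of_sylow P'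
  have hHP : H ≤ Subgroup.normalizer (P : Set G) :=
    Cfsg.Agent.Lib.Helper1.BG12.sylow_normal_of_nilpotent _ P p hnil hSyl H
      (le_normalizer_sigmaCore H)
  have hidx : ¬ p ∣ P.index := by
    rw [← Subgroup.relIndex_mul_index hSyl.le]
    intro hd
    rcases (Nat.Prime.dvd_mul hp.out).mp hd with h | h
    · exact hSyl.not_dvd h
    · exact (Cfsg.Agent.Lib.Helper11.BenderO.sigma_hall hG H hH).2.1.2 p hp.out hpσ h
  refine ⟨hSyl.isPGroup.toSylow hidx, hSyl.le, hHP, ?_⟩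
  intro R hRH hR
  have hRσ : R ≤ Cfsg.sigmaCore H := by
    intro r hr
    obtain ⟨k, hk⟩ := hR ⟨r, hr⟩
    have hk' : r ^ p ^ k = 1 := by simpa using congrArg Subtype.val hk
    exact pelem_mem_sigmaCore hG hH hpσ (hRH hr) hk'
  exact le_normal_sylow hSyl ((sigmaCore_le H).trans hHP) hRσ hR

theorem overgroup_normalizes {M E : Subgroup G} {p : ℕ} {A : Subgroup G} (c : Tau2Ctx M E p A)
    [hp : Fact p.Prime] (S₀ : Sylow p G) (hS₀ : IsMulCommutative (S₀ : Subgroup G))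
    {H : Subgroup G} (hH : IsCoatom H) (hNH : Subgroup.normalizer (A : Set G) ≤ H)
    (hnil : Group.IsNilpotent (Cfsg.sigmaCore H)) :
    H ≤ Subgroup.normalizer (A : Set G) := by
  have hpσ := c.p_mem_sigma_over hH hNH
  obtain ⟨-, -, hAH⟩ := c.overN hNH
  obtain ⟨S, -, hHS, hall⟩ := sigma_sylow_global c.hG hH hpσ hnil
  have hAS : A ≤ (S : Subgroup G) := hall A hAH c.isPGroup_A
  have hcomm := all_sylow_comm S₀ hS₀ S
  have hSM : (S : Subgroup G) ≤ M := by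
    refine le_trans ?_ c.cent_le
    intro s hs
    rw [Subgroup.mem_centralizer_iff]
    intro a ha
    exact hcomm a (hAS ha) s hs
  have hSylM : IsSylowIn p (S : Subgroup G) M := (isSylowIn_top_of_sylow S).of_le hSM le_top
  exact hHS.trans (c.normalizer_sylow_le hAS hSylM)

theorem rank_one_centralizes {M E : Subgroup G} {p : ℕ} {A : Subgroup G} (c : Tau2Ctx M E p A)
    (h13 : T1427 G) {H : Subgroup G} (hH : IsCoatom H)
    (hNH : Subgroup.normalizer (A : Set G) ≤ H) {q : ℕ} [hq : Fact q.Prime]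
    (hqσ : q ∉ Cfsg.sigma H) (hr1 : Cfsg.PRankLE q 1 H) {u : G} (huE : u ∈ E) {k : ℕ}
    (huk : u ^ q ^ (k + 1) = 1) (hu1 : ∀ a ∈ A, u ^ q ^ k * a = a * u ^ q ^ k)
    (hord : orderOf (u ^ q ^ k) = q) : ∀ a ∈ A, u * a = a * u := by
  have hpf := c.fact
  obtain ⟨-, hEH, hAH⟩ := c.overN hNH
  have hpσ := c.p_mem_sigma_over hH hNH
  have huH : u ∈ H := hEH huE
  have hYH : Subgroup.zpowers u ≤ H := Subgroup.zpowers_le.mpr huH
  have hYq : IsPGroup q (Subgroup.zpowers u) := isPGroup_of_orderOf huk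
  have hY : ∀ r : ℕ, r.Prime → r ∣ Nat.card (Subgroup.zpowers u) → r ∉ Cfsg.sigma H := by
    intro r hr hrd
    obtain ⟨n, hn⟩ := IsPGroup.iff_card.mp hYq
    rw [hn] at hrd
    have : r = q := (Nat.prime_dvd_prime_iff_eq hr hq.out).mp (hr.dvd_of_dvd_pow hrd)
    rw [this]; exact hqσ
  obtain ⟨Es, hEs, hYE⟩ := exists_compl_ge c.hG hH hYH hY
  obtain ⟨S', hS'⟩ := Cfsg.Agent.Lib.Helper1.BG10.exists_sylow_map_ge q Es (Subgroup.zpowers u)
    hYE hYq
  have hSyl := isSylowIn_of_sylow S'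
  have hqH : q ∣ Nat.card H := by
    have h1 : orderOf (u ^ q ^ k) ∣ Nat.card H :=
      Subgroup.orderOf_dvd_natCard H (H.pow_mem huH _)
    rwa [hord] at h1
  have hq2 : q ≠ 2 := Cfsg.Agent.Lib.Helper1.BG10.prime_ne_two c.hG q H hqH
  have hr1' : Cfsg.PRankLE q 1 ↥Es := Cfsg.Agent.Lib.Helper1.BG12.pRankLE_of_le hEs.1 hr1
  have hcyc' : IsCyclic ↥(S' : Subgroup ↥Es) :=
    Cfsg.Agent.Lib.Helper1.BG12.cyclic_of_rank_one q hq2 _ S'.isPGroup' hr1'
  have hcyc : IsCyclic ↥((S' : Subgroup ↥Es).map Es.subtype) :=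
    ((S' : Subgroup ↥Es).equivMapOfInjective Es.subtype Es.subtype_injective).isCyclic.mp hcyc'
  have huS : u ∈ (S' : Subgroup ↥Es).map Es.subtype := hS' (Subgroup.mem_zpowers u)
  have key := h13 H Es hH hEs q _ hSyl hcyc (u ^ q ^ k) (Subgroup.pow_mem _ huS _) hord
  intro a ha
  have haσ : a ∈ Cfsg.sigmaCore H :=
    pelem_mem_sigmaCore c.hG hH hpσ (hAH ha) (k := 1) (by rw [pow_one]; exact c.hAe.2 a ha)
  have h1 : a ∈ Cfsg.sigmaCore H ⊓ Subgroup.centralizer ({u ^ q ^ k} : Set G) :=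
    mem_inf_centralizer_singleton haσ (hu1 a ha)
  exact (Subgroup.mem_centralizer_iff.mp (key h1)) u huS

end Cfsg.Agent.Lib.Helper1.BG12b
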