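import Mathlib
import Cfsg.Agent.Lib.Helper1.BG12b.AbsCyc
import Cfsg.Agent.Lib.Helper1.BG12b.AbsSchur
import Cfsg.Agent.Lib.Helper18.SylowIn

set_option autoImplicit false

namespace Cfsg.Agent.Lib.Helper1.BG12b

open Cfsg.Agent.Lib.Helper18

variable {G : Type*} [Group G]

noncomputable def conjHom (F P : Subgroup G) (h : F ≤ Subgroup.normalizer (P : Set G)) :
    ↥F →* MulAut ↥P :=
  P.normalizerMonoidHom.comp (Subgroup.inclusion h)

theorem conjHom_coe (F P : Subgroup G) (h : F ≤ Subgroup.normalizer (P : Set G)) (f : ↥F)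
    (x : ↥P) : ((conjHom F P h f x : ↥P) : G) = (f : G) * (x : G) * (f : G)⁻¹ := rfl

theorem exists_inv_cyclic_sub [Finite G] {p : ℕ} [hp : Fact p.Prime] {P F X : Subgroup G}
    (hPc : ∀ a ∈ P, ∀ b ∈ P, a * b = b * a) (hFN : F ≤ Subgroup.normalizer (P : Set G))
    (hcop : (Nat.card F).Coprime p) (a : ℕ) (hexp : ∀ x ∈ P, x ^ p ^ (a + 1) = 1)
    (hXP : X ≤ P) (hX : Nat.card X = p) (hpow : ∀ x ∈ P, x ^ p ^ a ∈ X)
    (hy : ∃ y ∈ P, y ^ p ^ a ≠ 1) :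
    ∃ P₀ : Subgroup G, P₀ ≤ P ∧ F ≤ Subgroup.normalizer (P₀ : Set G) ∧ IsCyclic P₀ ∧
      Nat.card P₀ = p ^ (a + 1) := by
  letI : CommGroup ↥P :=
    { (inferInstance : Group ↥P) with mul_comm := fun x y => Subtype.ext (hPc x x.2 y y.2) }
  obtain ⟨y, hyP, hy1⟩ := hy
  have hcardX : Nat.card (X.subgroupOf P) = p := by
    rw [← hX]
    exact Nat.card_congr (Subgroup.subgroupOfEquivOfLe hXP).toEquiv
  obtain ⟨P₀', hinv, hcyc, hcard⟩ := exists_inv_cyclic (Γ := ↥F) p hcop a (Nat.card P) ↥P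
    (conjHom F P hFN) rfl
    (fun x => Subtype.ext (by simpa using hexp (x : G) x.2))
    (X.subgroupOf P) hcardX
    (fun x => by
      rw [Subgroup.mem_subgroupOf]
      simpa using hpow (x : G) x.2)
    ⟨⟨y, hyP⟩, fun h => hy1 (by simpa using congrArg Subtype.val h)⟩
  refine ⟨P₀'.map P.subtype, Subgroup.map_subtype_le _, ?_, ?_, ?_⟩
  · intro f hf
    apply mem_normalizer_of_conjSub_le
    rintro _ ⟨_, ⟨x', hx', rfl⟩, rfl⟩
    exact ⟨conjHom F P hFN ⟨f, hf⟩ x', hinv ⟨f, hf⟩ x' hx', rfl⟩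
  · exact (P₀'.equivMapOfInjective P.subtype P.subtype_injective).isCyclic.mp hcyc
  · rw [Subgroup.card_map_of_injective P.subtype_injective, hcard]

theorem exists_inv_compl_sub [Finite G] {p : ℕ} [hp : Fact p.Prime] {A F Q : Subgroup G}
    (hAc : ∀ a ∈ A, ∀ b ∈ A, a * b = b * a) (hAe : ∀ a ∈ A, a ^ p = 1)
    (hFN : F ≤ Subgroup.normalizer (A : Set G))
    (hcop : (Nat.card F).Coprime p) (hQA : Q ≤ A)
    (hFQ : F ≤ Subgroup.normalizer (Q : Set G)) :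
    ∃ R : Subgroup G, R ≤ A ∧ F ≤ Subgroup.normalizer (R : Set G) ∧ Q ⊓ R = ⊥ ∧
      Q ⊔ R = A := by
  obtain ⟨W, hinv, hinf, hsup⟩ := Cfsg.Agent.Lib.helper23.exists_invariant_complement'
    (A := ↥F) (Q := ↥A) (fun x y => Subtype.ext (hAc x x.2 y y.2)) (conjHom F A hFN) p
    (fun v => Subtype.ext (by simpa using hAe (v : G) v.2)) hcop (Q.subgroupOf A)
    (fun f u hu => by
      rw [Subgroup.mem_subgroupOf] at hu ⊢
      rw [conjHom_coe]
      exact (Subgroup.mem_normalizer_iff.mp (hFQ f.2) _).mp hu)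
  refine ⟨W.map A.subtype, Subgroup.map_subtype_le _, ?_, ?_, ?_⟩
  · intro f hf
    apply mem_normalizer_of_conjSub_le
    rintro _ ⟨_, ⟨x', hx', rfl⟩, rfl⟩
    exact ⟨conjHom F A hFN ⟨f, hf⟩ x', hinv ⟨f, hf⟩ x' hx', rfl⟩
  · rw [eq_bot_iff]
    rintro x ⟨hxQ, x', hx', rfl⟩
    have h1 : x' ∈ Q.subgroupOf A ⊓ W := ⟨Subgroup.mem_subgroupOf.mpr hxQ, hx'⟩
    rw [hinf, Subgroup.mem_bot] at h1
    rw [Subgroup.mem_bot, h1]
    rfl
  · have h2 := congrArg (Subgroup.map A.subtype) hsup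
    rw [Subgroup.map_sup, Subgroup.map_subgroupOf_eq_of_le hQA, ← MonoidHom.range_eq_map,
      Subgroup.range_subtype] at h2
    exact h2

theorem exists_prime_order_pow {H : Type*} [Group H] {q : ℕ} {υ : H} {k : ℕ}
    (hk : υ ^ q ^ k = 1) (h1 : υ ≠ 1) : ∃ m : ℕ, υ ^ q ^ m ≠ 1 ∧ (υ ^ q ^ m) ^ q = 1 := by
  classical
  have hex : ∃ j : ℕ, υ ^ q ^ j = 1 := ⟨k, hk⟩
  have hj0 : Nat.find hex ≠ 0 := by
    intro h
    have := Nat.find_spec hex
    rw [h, pow_zero, pow_one] at this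
    exact h1 this
  obtain ⟨m, hm⟩ := Nat.exists_eq_succ_of_ne_zero hj0
  refine ⟨m, ?_, ?_⟩
  · apply Nat.find_min hex
    omega
  · rw [← pow_mul, ← pow_succ, ← Nat.succ_eq_add_one, ← hm]
    exact Nat.find_spec hex

theorem schur_sub [Finite G] {q : ℕ} [hq : Fact q.Prime] {A : Subgroup G}
    (hAc : ∀ a ∈ A, ∀ b ∈ A, a * b = b * a) {a u : G}
    (ha : a ∈ Subgroup.normalizer (A : Set G)) (hu : u ∈ Subgroup.normalizer (A : Set G))
    (hau : a * u = u * a) (haq : a ^ q = 1) {k : ℕ} (huk : u ^ q ^ k = 1)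
    (hunc : ∃ z ∈ A, u * z * u⁻¹ ≠ z)
    (hirr : ∀ K : Subgroup G, K ≤ A → u ∈ Subgroup.normalizer (K : Set G) → K = ⊥ ∨ K = A)
    (hx : ∃ x ∈ A, x ^ q ≠ 1) :
    ∃ v ∈ Subgroup.zpowers u, ∀ z ∈ A, a * z * a⁻¹ = v * z * v⁻¹ := by
  letI : CommGroup ↥A :=
    { (inferInstance : Group ↥A) with mul_comm := fun x y => Subtype.ext (hAc x x.2 y y.2) }
  obtain ⟨Φ, hΦ⟩ : ∃ Φ : ↥(Subgroup.normalizer (A : Set G)) →* MulAut ↥A,
    Φ = A.normalizerMonoidHom := ⟨_, rfl⟩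
  have hΦc : ∀ (n : ↥(Subgroup.normalizer (A : Set G))) (x : ↥A),
      ((Φ n x : ↥A) : G) = (n : G) * (x : G) * (n : G)⁻¹ := by
    intro n x; rw [hΦ]; rfl
  obtain ⟨a', ha'⟩ : ∃ a' : ↥(Subgroup.normalizer (A : Set G)), a' = ⟨a, ha⟩ := ⟨_, rfl⟩
  obtain ⟨u', hu'⟩ : ∃ u' : ↥(Subgroup.normalizer (A : Set G)), u' = ⟨u, hu⟩ := ⟨_, rfl⟩
  have hau' : Commute a' u' := by
    rw [ha', hu']
    exact Subtype.ext hau
  have haq' : a' ^ q = 1 := by
    rw [ha']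
    exact Subtype.ext (by simpa using haq)
  have huk' : u' ^ q ^ k = 1 := by
    rw [hu']
    exact Subtype.ext (by simpa using huk)
  have hυ1 : Φ u' ≠ 1 := by
    intro h
    obtain ⟨z, hz, hne⟩ := hunc
    apply hne
    have := hΦc u' ⟨z, hz⟩
    rw [h, MulAut.one_apply, hu'] at this
    exact this.symm
  have hυk : (Φ u') ^ q ^ k = 1 := by rw [← map_pow, huk', map_one]
  obtain ⟨m, hm1, hmq⟩ := exists_prime_order_pow hυk hυ1
  have hαq : (Φ a') ^ q = 1 := by rw [← map_pow, haq', map_one]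
  have hc1 : Commute (Φ u') (Φ a') := (hau'.map Φ).symm
  have hirr' : ∀ K : Subgroup ↥A, (∀ x ∈ K, Φ u' x ∈ K) → K = ⊥ ∨ K = ⊤ := by
    intro K hK
    have hN : u ∈ Subgroup.normalizer ((K.map A.subtype : Subgroup G) : Set G) := by
      apply mem_normalizer_of_conjSub_le
      rintro _ ⟨_, ⟨x', hx', rfl⟩, rfl⟩
      refine ⟨Φ u' x', hK x' hx', ?_⟩
      show ((Φ u' x' : ↥A) : G) = u * (x' : G) * u⁻¹
      rw [hΦc u' x', hu']
    rcases hirr _ (Subgroup.map_subtype_le K) hN with h | h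
    · left
      exact (Subgroup.map_eq_bot_iff_of_injective K A.subtype_injective).mp h
    · right
      rw [eq_top_iff]
      intro x _
      have hxA : (x : G) ∈ K.map A.subtype := by rw [h]; exact x.2
      obtain ⟨x', hx', hxx⟩ := hxA
      have : x' = x := Subtype.ext hxx
      rw [← this]; exact hx'
  obtain ⟨x, hxA, hxq⟩ := hx
  obtain ⟨j, hj⟩ := schur_cyclic q hαq hmq hm1 (hc1.symm.pow_right _) hc1
    (Commute.pow_right (Commute.refl _) _) hirr'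
    ⟨⟨x, hxA⟩, fun h => hxq (by simpa using congrArg Subtype.val h)⟩
  refine ⟨(u ^ (q ^ m * j))⁻¹, Subgroup.inv_mem _ (Subgroup.pow_mem _ (Subgroup.mem_zpowers u) _), ?_⟩
  intro z hz
  have h1 : Φ a' = Φ ((u' ^ (q ^ m * j))⁻¹) := by
    rw [map_inv, map_pow, pow_mul]
    exact eq_inv_of_mul_eq_one_left hj
  have h2 := hΦc a' ⟨z, hz⟩
  rw [h1, hΦc, ha'] at h2
  rw [hu'] at h2
  simpa using h2.symm

end Cfsg.Agent.Lib.Helper1.BG12b
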