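import Mathlib
import Cfsg.Agent.Lib.Helper1.BG12b.RegLineB
import Cfsg.Agent.Lib.Helper1.BG12b.Transfer

set_option autoImplicit false

namespace Cfsg.Agent.Lib.Helper1.BG12b

open Cfsg Cfsg.Agent.Lib.Helper18 Cfsg.Agent.Lib.Helper28.BGt
open scoped commutatorElement

variable {G : Type*} [Group G] [Finite G]

theorem nonscalar_data {M E : Subgroup G} {p : ℕ} {A : Subgroup G} (c : Tau2Ctx M E p A)
    (nc : NC G) (h12 : T1412 G) (h13 : T1427 G)
    (hA₀ : A ⊓ Subgroup.centralizer (Cfsg.sigmaCore M : Set G) = ⊥) {F : Subgroup G}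
    (hFE : F ≤ E) (hcop : (Nat.card F).Coprime p)
    (hregF : ∀ x ∈ F, ∀ r : ℕ, r.Prime → orderOf x = r → r ∈ Cfsg.tau1 M ∪ Cfsg.tau3 M →
      Cfsg.sigmaCore M ⊓ Subgroup.centralizer ({x} : Set G) = ⊥)
    {f : G} (hf : f ∈ F) (hfs : f ∉ scal A) :
    ∃ (q : ℕ) (u a : G) (k : ℕ), q.Prime ∧ q ≠ p ∧ u ∈ F ∧ u ∉ scal A ∧ u ^ q ^ k = 1 ∧
      a ∈ Subgroup.normalizer (A : Set G) ∧ a ∉ M ∧ a ^ q = 1 ∧ a * u = u * a := by
  have hpf := c.fact
  obtain ⟨q, u, k₀, hq, huz, huk₀, hus⟩ := exists_qpart_nonscalar hfs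
  have hqf : Fact q.Prime := ⟨hq⟩
  have huF : u ∈ F := (Subgroup.zpowers_le.mpr hf) huz
  have huE : u ∈ E := hFE huF
  have hu1 : u ≠ 1 := by
    rintro rfl
    exact hus (Subgroup.one_mem _)
  obtain ⟨k', -, hk'⟩ := (Nat.dvd_prime_pow hq).mp (orderOf_dvd_of_pow_eq_one huk₀)
  have hk'0 : k' ≠ 0 := by
    rintro rfl
    rw [pow_zero, orderOf_eq_one_iff] at hk'
    exact hu1 hk'
  obtain ⟨k, rfl⟩ := Nat.exists_eq_succ_of_ne_zero hk'0
  have huk : u ^ q ^ (k + 1) = 1 := by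
    rw [← Nat.succ_eq_add_one, ← hk']; exact pow_orderOf_eq_one u
  have hqu : q ∣ orderOf u := by rw [hk']; exact dvd_pow_self q (Nat.succ_ne_zero k)
  have hqF : q ∣ Nat.card F := hqu.trans (Subgroup.orderOf_dvd_natCard F huF)
  have hqp : q ≠ p := by
    rintro rfl
    have := Nat.Coprime.eq_one_of_dvd hcop.symm hqF
    exact hq.one_lt.ne' this
  have hqE : q ∣ Nat.card E := hqF.trans (Subgroup.card_dvd_of_le hFE)
  have hnotC : ¬ ∀ a ∈ A, u * a = a * u := by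
    intro h
    apply hus
    apply centralizer_le_scal
    rw [Subgroup.mem_centralizer_iff]
    intro a ha
    exact (h a ha).symm
  have hq13 : q ∈ Cfsg.tau1 M ∪ Cfsg.tau3 M := by
    rcases prime_tau c.hG c.hM c.hE hq hqE with h | h
    · exact h
    · exfalso
      exact hnotC (c.qelem_centralizes nc h huE huk)
  have hx0 : orderOf u ≠ 0 := (orderOf_pos u).ne'
  have hdiv : orderOf u / q = q ^ k := by
    rw [hk', Nat.pow_succ, Nat.mul_div_cancel _ hq.pos]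
  have hord : orderOf (u ^ q ^ k) = q := by
    rw [← hdiv]; exact orderOf_pow_orderOf_div hx0 hqu
  have hu₁reg := hregF (u ^ q ^ k) (F.pow_mem huF _) q hq hord hq13
  have hu₁c := prime_order_centralizes c hA₀ (E.pow_mem huE _) hq hord hqp hu₁reg
  obtain ⟨H, hH, hNH⟩ := Cfsg.Agent.Lib.Helper11.BenderE.exists_coatom_ge _ c.normalizer_ne_top
  obtain ⟨hHM, hEH, hAH⟩ := c.overN hNH
  have hpσ := c.p_mem_sigma_over hH hNH
  have hpβ := not_beta_of_tau2 c.hG c.hM c.hp H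
  have huN : u ∈ Subgroup.normalizer (A : Set G) := c.E_le_normalizer huE
  have hqσ : q ∉ Cfsg.sigma H := by
    intro hqσ
    apply hnotC
    exact cross_centralizes c.hG nc hH hqp hqσ hpσ hpβ (hEH huE) huk hAH c.isPGroup_A huN
  have hr1 : ¬ Cfsg.PRankLE q 1 H := by
    intro hr1
    apply hnotC
    exact rank_one_centralizes c h13 hH hNH hqσ hr1 huE huk hu₁c hord
  have hτ2 : q ∈ Cfsg.tau2 H :=
    ⟨hq, hqσ, Cfsg.Agent.Lib.Helper1.BG15.rank_le_two_of_not_sigma c.hG hH hq hqσ, hr1⟩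
  obtain ⟨B, hBH, hBe, hB2⟩ :=
    Cfsg.Agent.Lib.Helper1.BG10.exists_elemAb_sq_of_not_pRankLE_one q H hr1
  have t17s := c.h17 H hH q hτ2 B ⟨hBH, hBe, hB2⟩
  have hab : ∃ S₀ : Sylow p G, IsMulCommutative (S₀ : Subgroup G) := by
    by_contra hno
    push Not at hno
    have := (c.twelve_seven nc h12 hno).2.1.1
    rw [hA₀, Subgroup.card_bot] at this
    exact c.prime.one_lt.ne this
  obtain ⟨S₀, hS₀⟩ := hab
  have hHN := overgroup_normalizes c S₀ hS₀ hH hNH t17s.1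
  obtain ⟨Ss, hSs⟩ := Cfsg.Agent.Lib.Helper1.BG10.exists_sylow_map_ge q H (Subgroup.zpowers u)
    (Subgroup.zpowers_le.mpr (hEH huE)) (isPGroup_of_orderOf huk)
  have hcommS := (t17s.2.1 Ss).1
  obtain ⟨m, hm, hle⟩ := (isSylowIn_of_sylow Ss).exists_conj_le hBH (IsPGroup.of_card hB2)
  have hB'e := Cfsg.Agent.Lib.Helper11.BenderF.elemAb_conjSub q m hBe
  have hB'M : ¬ conjSub m B ≤ M := by
    intro h
    have hr1M : Cfsg.PRankLE q 1 M := by
      rcases hq13 with h1 | h3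
      · exact h1.2.2.2.2
      · exact h3.2.2.2
    have := Cfsg.Agent.Lib.Helper1.BG10.pRankLE_card_le hr1M h hB'e
    rw [card_conjSub, hB2] at this
    have h2 : q ^ 1 < q ^ 2 := Nat.pow_lt_pow_right hq.one_lt (by norm_num)
    omega
  obtain ⟨a, haB, haM⟩ := SetLike.not_le_iff_exists.mp hB'M
  have haq : a ^ q = 1 := hB'e.2 a haB
  obtain ⟨a', ha', haa⟩ := hle haB
  obtain ⟨u', hu', huu⟩ := hSs (Subgroup.mem_zpowers u)
  have hcomm : a * u = u * a := by
    have h1 := hcommS.is_comm.comm ⟨a', ha'⟩ ⟨u', hu'⟩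
    have h2 : a' * u' = u' * a' := by simpa using congrArg Subtype.val h1
    have h3 : (a' : G) * (u' : G) = (u' : G) * (a' : G) := by
      simpa using congrArg Subtype.val h2
    rw [← haa, ← huu]
    exact h3
  have haH : a ∈ H := by rw [← haa]; exact a'.2
  exact ⟨q, u, a, k + 1, hq, hqp, huF, hus, huk, hHN haH, haM, haq, hcomm⟩

theorem exists_inv_line_of_nonscalar {M E : Subgroup G} {p : ℕ} {A : Subgroup G}
    (c : Tau2Ctx M E p A)
    (nc : NC G) (h12 : T1412 G) (h13 : T1427 G)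
    (hA₀ : A ⊓ Subgroup.centralizer (Cfsg.sigmaCore M : Set G) = ⊥) {F : Subgroup G}
    (hFE : F ≤ E) (hcop : (Nat.card F).Coprime p)
    (hregF : ∀ x ∈ F, ∀ r : ℕ, r.Prime → orderOf x = r → r ∈ Cfsg.tau1 M ∪ Cfsg.tau3 M →
      Cfsg.sigmaCore M ⊓ Subgroup.centralizer ({x} : Set G) = ⊥)
    {f : G} (hf : f ∈ F) (hfs : f ∉ scal A) :
    ∃ X : Subgroup G, X ≤ A ∧ Nat.card X = p ∧ F ≤ Subgroup.normalizer (X : Set G) ∧
      Cfsg.sigmaCore M ⊓ Subgroup.centralizer (X : Set G) = ⊥ := by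
  have hpf := c.fact
  obtain ⟨q, u, a, k, hq, hqp, huF, hus, huk, haN, haM, haq, hau⟩ :=
    nonscalar_data c nc h12 h13 hA₀ hFE hcop hregF hf hfs
  have hqf : Fact q.Prime := ⟨hq⟩
  have huE : u ∈ E := hFE huF
  have huN : u ∈ Subgroup.normalizer (A : Set G) := c.E_le_normalizer huE
  have hAc : ∀ x ∈ A, ∀ y ∈ A, x * y = y * x := fun x hx y hy => c.A_comm hx hy
  have hunc : ∃ z ∈ A, u * z * u⁻¹ ≠ z := by
    by_contra hno
    push Not at hno
    apply hus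
    apply centralizer_le_scal
    rw [Subgroup.mem_centralizer_iff]
    intro z hz
    have h1 := hno z hz
    have : z * u = (u * z * u⁻¹) * u := by rw [h1]
    rw [this]; group
  have hxq : ∃ x ∈ A, x ^ q ≠ 1 := by
    obtain ⟨⟨x, hx⟩, hx1'⟩ := (Subgroup.ne_bot_iff_exists_ne_one).mp c.A_ne_bot
    have hx1 : x ≠ 1 := fun h => hx1' (Subtype.ext h)
    refine ⟨x, hx, ?_⟩
    intro hxq
    apply hx1
    have h1 : orderOf x ∣ p := orderOf_dvd_of_pow_eq_one (c.hAe.2 x hx)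
    have h2 : orderOf x ∣ q := orderOf_dvd_of_pow_eq_one hxq
    have h3 : orderOf x ∣ Nat.gcd p q := Nat.dvd_gcd h1 h2
    rw [(Nat.coprime_primes c.prime hq).mpr (fun h => hqp h.symm)] at h3
    exact orderOf_eq_one_iff.mp (Nat.dvd_one.mp h3)
  have hred : ¬ ∀ K : Subgroup G, K ≤ A → u ∈ Subgroup.normalizer (K : Set G) →
      K = ⊥ ∨ K = A := by
    intro hirr
    obtain ⟨v, hv, hav⟩ := schur_sub hAc haN huN hau haq huk hunc hirr hxq
    apply haM
    have hvM : v ∈ M := (Subgroup.zpowers_le.mpr (c.hEM huE)) hv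
    have hC : v⁻¹ * a ∈ Subgroup.centralizer (A : Set G) := by
      rw [Subgroup.mem_centralizer_iff]
      intro z hz
      have h1 := hav z hz
      have e1 : z * (v⁻¹ * a) = v⁻¹ * (v * z * v⁻¹) * a := by group
      have e2 : v⁻¹ * a * z = v⁻¹ * (a * z * a⁻¹) * a := by group
      rw [e1, e2, h1]
    have : a = v * (v⁻¹ * a) := by group
    rw [this]
    exact M.mul_mem hvM (c.cent_le hC)
  push Not at hred
  obtain ⟨K, hKA, huK, hK1, hKA'⟩ := hred
  have hKcard : Nat.card K = p := by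
    have hdvd : Nat.card K ∣ p ^ 2 := by
      rw [← c.hA2]; exact Subgroup.card_dvd_of_le hKA
    obtain ⟨m, hm, hcard⟩ := (Nat.dvd_prime_pow c.prime).mp hdvd
    have hm0 : m ≠ 0 := by
      rintro rfl
      rw [pow_zero] at hcard
      exact hK1 (Subgroup.eq_bot_of_card_eq _ hcard)
    have hm2 : m ≠ 2 := by
      rintro rfl
      apply hKA'
      apply Subgroup.eq_of_le_of_card_ge hKA
      rw [hcard, c.hA2]
    have : m = 1 := by omega
    rw [hcard, this, pow_one]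
  obtain ⟨⟨x₀, hx₀K⟩, hx₀1'⟩ := (Subgroup.ne_bot_iff_exists_ne_one).mp hK1
  have hx₀1 : x₀ ≠ 1 := fun h => hx₀1' (Subtype.ext h)
  have hconj : u * x₀ * u⁻¹ ∈ K := (Subgroup.mem_normalizer_iff.mp huK x₀).mp hx₀K
  obtain ⟨l, hl⟩ := Subgroup.mem_zpowers_iff.mp (mem_zpowers_of_card_prime hKcard hx₀K hx₀1 hconj)
  obtain ⟨Al, hAl⟩ : ∃ Al : Subgroup G, ∀ z, z ∈ Al ↔ (z ∈ A ∧ u * z * u⁻¹ = z ^ l) := by
    refine ⟨{ carrier := {z | z ∈ A ∧ u * z * u⁻¹ = z ^ l}
              mul_mem' := ?_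
              one_mem' := ?_
              inv_mem' := ?_ }, fun z => Iff.rfl⟩
    · rintro z w ⟨hz, hz'⟩ ⟨hw, hw'⟩
      refine ⟨A.mul_mem hz hw, ?_⟩
      have e1 : u * (z * w) * u⁻¹ = (u * z * u⁻¹) * (u * w * u⁻¹) := by group
      rw [e1, hz', hw', (show Commute z w from hAc z hz w hw).mul_zpow]
    · refine ⟨A.one_mem, ?_⟩
      simp
    · rintro z ⟨hz, hz'⟩
      refine ⟨A.inv_mem hz, ?_⟩
      have e1 : u * z⁻¹ * u⁻¹ = (u * z * u⁻¹)⁻¹ := by group
      rw [e1, hz', inv_zpow]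
  have hKAl : K ≤ Al := by
    intro z hz
    rw [hAl]
    refine ⟨hKA hz, ?_⟩
    obtain ⟨i, rfl⟩ := Subgroup.mem_zpowers_iff.mp (mem_zpowers_of_card_prime hKcard hx₀K hx₀1 hz)
    have e1 : u * x₀ ^ i * u⁻¹ = (u * x₀ * u⁻¹) ^ i := by
      rw [conj_zpow]
    rw [e1, ← hl, ← zpow_mul, ← zpow_mul, mul_comm]
  have hAlA : Al ≤ A := fun z hz => ((hAl z).mp hz).1
  have hAlne : Al ≠ A := by
    intro h
    apply hus
    rw [mem_scal]
    intro X hX
    apply mem_normalizer_of_conjSub_le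
    rintro _ ⟨z, hz, rfl⟩
    show (MulAut.conj u).toMonoidHom z ∈ X
    simp only [MulEquiv.coe_toMonoidHom, MulAut.conj_apply]
    have hzAl : z ∈ Al := by rw [h]; exact hX hz
    rw [((hAl z).mp hzAl).2]
    exact X.zpow_mem hz l
  have hKeq : K = Al := by
    apply Subgroup.eq_of_le_of_card_ge hKAl
    have hdvd : Nat.card Al ∣ p ^ 2 := by
      rw [← c.hA2]; exact Subgroup.card_dvd_of_le hAlA
    obtain ⟨m, hm, hcard⟩ := (Nat.dvd_prime_pow c.prime).mp hdvd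
    have hm2 : m ≠ 2 := by
      rintro rfl
      apply hAlne
      apply Subgroup.eq_of_le_of_card_ge hAlA
      rw [hcard, c.hA2]
    rw [hKcard, hcard]
    have : m ≤ 1 := by omega
    calc p ^ m ≤ p ^ 1 := Nat.pow_le_pow_right c.prime.pos this
      _ = p := pow_one p
  have hinv : ∀ g ∈ Subgroup.normalizer (A : Set G),
      (∀ z ∈ A, u * (g * z * g⁻¹) * u⁻¹ = g * (u * z * u⁻¹) * g⁻¹) →
      g ∈ Subgroup.normalizer (K : Set G) := by
    intro g hgN hg
    apply mem_normalizer_of_conjSub_le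
    rintro _ ⟨z, hz, rfl⟩
    show (MulAut.conj g).toMonoidHom z ∈ K
    simp only [MulEquiv.coe_toMonoidHom, MulAut.conj_apply]
    rw [hKeq, hAl]
    have hzAl := (hAl z).mp (hKAl hz)
    refine ⟨(Subgroup.mem_normalizer_iff.mp hgN z).mp hzAl.1, ?_⟩
    rw [hg z hzAl.1, hzAl.2, conj_zpow]
  have haK : a ∈ Subgroup.normalizer (K : Set G) := by
    apply hinv a haN
    intro z _
    have e1 : u * (a * z * a⁻¹) * u⁻¹ = (u * a) * z * (u * a)⁻¹ := by group
    have e2 : a * (u * z * u⁻¹) * a⁻¹ = (a * u) * z * (a * u)⁻¹ := by group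
    rw [e1, e2, hau]
  have hFK : F ≤ Subgroup.normalizer (K : Set G) := by
    intro g hgF
    have hgE : g ∈ E := hFE hgF
    have hgN : g ∈ Subgroup.normalizer (A : Set G) := c.E_le_normalizer hgE
    apply hinv g hgN
    intro z hz
    have hc0 : g * u * g⁻¹ * u⁻¹ ∈ Subgroup.centralizer (A : Set G) :=
      derived_centralizes_A c nc (Subgroup.commutator_mem_commutator hgE huE)
    have hwA : u * (g * z * g⁻¹) * u⁻¹ ∈ A :=
      (Subgroup.mem_normalizer_iff.mp huN _).mp ((Subgroup.mem_normalizer_iff.mp hgN z).mp hz)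
    have h1 := (Subgroup.mem_centralizer_iff.mp hc0) _ hwA
    have e1 : g * (u * z * u⁻¹) * g⁻¹ =
        (g * u * g⁻¹ * u⁻¹) * (u * (g * z * g⁻¹) * u⁻¹) * (g * u * g⁻¹ * u⁻¹)⁻¹ := by group
    rw [e1, ← h1]
    group
  refine ⟨K, hKA, hKcard, hFK, ?_⟩
  by_contra hne
  have h1 := c.conj_fpf hKA hKcard hne haN haM
  rw [conjSub_eq_of_mem_normalizer haK] at h1
  exact hne h1

theorem exists_regular_inv_line {M E : Subgroup G} {p : ℕ} {A : Subgroup G}
    (c : Tau2Ctx M E p A) (nc : NC G) (h12 : T1412 G) (h13 : T1427 G) {F : Subgroup G}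
    (hFE : F ≤ E) (hcop : (Nat.card F).Coprime p)
    (hregF : ∀ x ∈ F, ∀ r : ℕ, r.Prime → orderOf x = r → r ∈ Cfsg.tau1 M ∪ Cfsg.tau3 M →
      Cfsg.sigmaCore M ⊓ Subgroup.centralizer ({x} : Set G) = ⊥) :
    ∃ X : Subgroup G, X ≤ A ∧ Nat.card X = p ∧ F ≤ Subgroup.normalizer (X : Set G) ∧
      Cfsg.sigmaCore M ⊓ Subgroup.centralizer (X : Set G) = ⊥ := by
  have hpf := c.fact
  by_cases hA₀ : A ⊓ Subgroup.centralizer (Cfsg.sigmaCore M : Set G) = ⊥
  · by_cases hsc : F ≤ scal A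
    · obtain ⟨X, hXA, hX, hreg⟩ := exists_regular_line c
      exact ⟨X, hXA, hX, fun f hf => mem_scal.mp (hsc hf) X hXA, hreg⟩
    · obtain ⟨f, hf, hfs⟩ := SetLike.not_le_iff_exists.mp hsc
      exact exists_inv_line_of_nonscalar c nc h12 h13 hA₀ hFE hcop hregF hf hfs
  · have hAc : ∀ x ∈ A, ∀ y ∈ A, x * y = y * x := fun x hx y hy => c.A_comm hx hy
    have hFN : F ≤ Subgroup.normalizer (A : Set G) := hFE.trans c.E_le_normalizer
    have hFQ : F ≤ Subgroup.normalizer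
        ((A ⊓ Subgroup.centralizer (Cfsg.sigmaCore M : Set G) : Subgroup G) : Set G) :=
      hFE.trans (c.hEM.trans c.A0_normal)
    obtain ⟨R, hRA, hFR, hinf, hsup⟩ :=
      exists_inv_compl_sub hAc c.hAe.2 hFN hcop inf_le_left hFQ
    refine ⟨R, hRA, ?_, hFR, regular_of_sup c hA₀ hsup⟩
    have hn : A ⊓ Subgroup.centralizer (Cfsg.sigmaCore M : Set G) ≤
        Subgroup.normalizer (R : Set G) := by
      intro x hx
      apply Subgroup.centralizer_le_normalizer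
      rw [Subgroup.mem_centralizer_iff]
      intro r hr
      exact hAc r (hRA hr) x hx.1
    have h1 := card_sup_of_inf_eq_bot hn hinf
    rw [hsup, c.hA2, card_A0 c hA₀] at h1
    have hp0 : 0 < p := c.prime.pos
    have : p * p = p * Nat.card R := by rw [← h1]; ring
    exact (Nat.eq_of_mul_eq_mul_left hp0 this).symm

end Cfsg.Agent.Lib.Helper1.BG12b
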