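import Mathlib
import Cfsg.Agent.Lib.Helper1.BG12b.RegLineC
import Cfsg.Agent.Lib.Helper28.BGtL

set_option autoImplicit false

namespace Cfsg.Agent.Lib.Helper1.BG12b

open Cfsg Cfsg.Agent.Lib.Helper18 Cfsg.Agent.Lib.Helper28.BGt
open scoped commutatorElement

variable {G : Type*} [Group G] [Finite G]

theorem conj_pow_mem {P : Subgroup G} {g : G} (hg : g ∈ Subgroup.normalizer (P : Set G))
    {x : G} (hx : x ∈ P) (n : ℕ) :
    g * x * g⁻¹ ∈ P ∧ g * x ^ n * g⁻¹ = (g * x * g⁻¹) ^ n :=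
  ⟨(Subgroup.mem_normalizer_iff.mp hg x).mp hx, (conj_pow).symm⟩

theorem exists_P0 {M E : Subgroup G} {p : ℕ} {A : Subgroup G} (c : Tau2Ctx M E p A)
    (nc : NC G) (h12 : T1412 G) (h13 : T1427 G) {P : Subgroup G} (hAP : A ≤ P)
    (hPM : IsSylowIn p P M) {F : Subgroup G} (hFE : F ≤ E)
    (hFP : F ≤ Subgroup.normalizer (P : Set G)) (hcop : (Nat.card F).Coprime p)
    (hregF : ∀ x ∈ F, ∀ r : ℕ, r.Prime → orderOf x = r → r ∈ Cfsg.tau1 M ∪ Cfsg.tau3 M →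
      Cfsg.sigmaCore M ⊓ Subgroup.centralizer ({x} : Set G) = ⊥) :
    ∃ P₀ : Subgroup G, P₀ ≤ P ∧ F ≤ Subgroup.normalizer (P₀ : Set G) ∧ IsCyclic P₀ ∧
      (∀ x ∈ P, x ^ Nat.card P₀ = 1) ∧
      ∀ x ∈ P₀, x ≠ 1 → Cfsg.sigmaCore M ⊓ Subgroup.centralizer ({x} : Set G) = ⊥ := by
  classical
  have hpf := c.fact
  obtain ⟨hPc, hOm, hNP⟩ := c.sylow_data hAP hPM
  have hex : ∃ a : ℕ, ∀ x ∈ P, x ^ p ^ a = 1 := by
    obtain ⟨n, hn⟩ := IsPGroup.iff_card.mp hPM.isPGroup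
    refine ⟨n, fun x hx => ?_⟩
    have h1 : (⟨x, hx⟩ : P) ^ Nat.card P = 1 := pow_card_eq_one'
    rw [hn] at h1
    simpa using congrArg Subtype.val h1
  have ha0 : Nat.find hex ≠ 0 := by
    intro h
    have h1 := Nat.find_spec hex
    rw [h, pow_zero] at h1
    apply c.A_ne_bot
    rw [eq_bot_iff]
    intro x hx
    have := h1 x (hAP hx)
    rw [pow_one] at this
    exact Subgroup.mem_bot.mpr this
  obtain ⟨a', ha'⟩ := Nat.exists_eq_succ_of_ne_zero ha0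
  have hexp : ∀ x ∈ P, x ^ p ^ (a' + 1) = 1 := by
    have := Nat.find_spec hex
    rw [ha'] at this
    exact this
  have hnot : ¬ ∀ x ∈ P, x ^ p ^ a' = 1 := by
    apply Nat.find_min hex
    omega
  push Not at hnot
  obtain ⟨y, hyP, hy1⟩ := hnot
  obtain ⟨V, hV⟩ : ∃ V : Subgroup G, ∀ z, z ∈ V ↔ ∃ x ∈ P, x ^ p ^ a' = z := by
    refine ⟨{ carrier := {z | ∃ x ∈ P, x ^ p ^ a' = z}
              mul_mem' := ?_
              one_mem' := ⟨1, P.one_mem, one_pow _⟩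
              inv_mem' := ?_ }, fun z => Iff.rfl⟩
    · rintro _ _ ⟨x₁, hx₁, rfl⟩ ⟨x₂, hx₂, rfl⟩
      exact ⟨x₁ * x₂, P.mul_mem hx₁ hx₂, (show Commute x₁ x₂ from hPc x₁ hx₁ x₂ hx₂).mul_pow _⟩
    · rintro _ ⟨x, hx, rfl⟩
      exact ⟨x⁻¹, P.inv_mem hx, inv_pow x _⟩
  have hVA : V ≤ A := by
    intro z hz
    obtain ⟨x, hx, rfl⟩ := (hV z).mp hz
    apply (hOm _ (P.pow_mem hx _)).mp
    rw [← pow_mul, ← pow_succ]
    exact hexp x hx
  have hVinv : ∀ g ∈ Subgroup.normalizer (P : Set G), g ∈ Subgroup.normalizer (V : Set G) := by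
    intro g hg
    apply mem_normalizer_of_conjSub_le
    rintro _ ⟨z, hz, rfl⟩
    show (MulAut.conj g).toMonoidHom z ∈ V
    simp only [MulEquiv.coe_toMonoidHom, MulAut.conj_apply]
    obtain ⟨x, hx, rfl⟩ := (hV z).mp hz
    obtain ⟨h1, h2⟩ := conj_pow_mem hg hx (p ^ a')
    exact (hV _).mpr ⟨_, h1, h2.symm⟩
  have hV1 : V ≠ ⊥ := by
    intro h
    have : y ^ p ^ a' ∈ V := (hV _).mpr ⟨y, hyP, rfl⟩
    rw [h, Subgroup.mem_bot] at this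
    exact hy1 this
  have hline : ∃ X : Subgroup G, X ≤ V ∧ Nat.card X = p ∧
      F ≤ Subgroup.normalizer (X : Set G) ∧
      Cfsg.sigmaCore M ⊓ Subgroup.centralizer (X : Set G) = ⊥ := by
    have hdvd : Nat.card V ∣ p ^ 2 := by
      rw [← c.hA2]; exact Subgroup.card_dvd_of_le hVA
    obtain ⟨m, hm, hcard⟩ := (Nat.dvd_prime_pow c.prime).mp hdvd
    have hm0 : m ≠ 0 := by
      rintro rfl
      rw [pow_zero] at hcard
      exact hV1 (Subgroup.eq_bot_of_card_eq _ hcard)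
    by_cases hm2 : m = 2
    · have hVeq : V = A := by
        apply Subgroup.eq_of_le_of_card_ge hVA
        rw [hcard, hm2, c.hA2]
      obtain ⟨X, hXA, hX, hFX, hreg⟩ := exists_regular_inv_line c nc h12 h13 hFE hcop hregF
      exact ⟨X, hVeq ▸ hXA, hX, hFX, hreg⟩
    · have hm1 : m = 1 := by omega
      rw [hm1, pow_one] at hcard
      refine ⟨V, le_refl V, hcard, fun f hf => hVinv f (hFP hf), ?_⟩
      by_contra hne
      obtain ⟨g, hgN, hgM⟩ := SetLike.not_le_iff_exists.mp hNP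
      have h1 := c.conj_fpf hVA hcard hne (c.normalizer_sylow_le hAP hPM hgN) hgM
      rw [conjSub_eq_of_mem_normalizer (hVinv g hgN)] at h1
      exact hne h1
  obtain ⟨X, hXV, hX, hFX, hreg⟩ := hline
  have hXA : X ≤ A := hXV.trans hVA
  obtain ⟨P₁, hP₁⟩ : ∃ P₁ : Subgroup G, ∀ z, z ∈ P₁ ↔ (z ∈ P ∧ z ^ p ^ a' ∈ X) := by
    refine ⟨{ carrier := {z | z ∈ P ∧ z ^ p ^ a' ∈ X}
              mul_mem' := ?_
              one_mem' := ⟨P.one_mem, by rw [one_pow]; exact X.one_mem⟩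
              inv_mem' := ?_ }, fun z => Iff.rfl⟩
    · rintro z w ⟨hz, hz'⟩ ⟨hw, hw'⟩
      refine ⟨P.mul_mem hz hw, ?_⟩
      rw [(show Commute z w from hPc z hz w hw).mul_pow]
      exact X.mul_mem hz' hw'
    · rintro z ⟨hz, hz'⟩
      refine ⟨P.inv_mem hz, ?_⟩
      rw [inv_pow]
      exact X.inv_mem hz'
  have hP₁P : P₁ ≤ P := fun z hz => ((hP₁ z).mp hz).1
  have hFP₁ : F ≤ Subgroup.normalizer (P₁ : Set G) := by
    intro f hf
    apply mem_normalizer_of_conjSub_le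
    rintro _ ⟨z, hz, rfl⟩
    show (MulAut.conj f).toMonoidHom z ∈ P₁
    simp only [MulEquiv.coe_toMonoidHom, MulAut.conj_apply]
    obtain ⟨hzP, hzX⟩ := (hP₁ z).mp hz
    obtain ⟨h1, h2⟩ := conj_pow_mem (hFP hf) hzP (p ^ a')
    refine (hP₁ _).mpr ⟨h1, ?_⟩
    rw [← h2]
    exact (Subgroup.mem_normalizer_iff.mp (hFX hf) _).mp hzX
  have hXP₁ : X ≤ P₁ := fun x hx => (hP₁ x).mpr ⟨hAP (hXA hx), X.pow_mem hx _⟩
  have hX1 : X ≠ ⊥ := by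
    intro h
    rw [h, Subgroup.card_bot] at hX
    exact c.prime.one_lt.ne hX
  obtain ⟨⟨x₁, hx₁X⟩, hx₁1'⟩ := (Subgroup.ne_bot_iff_exists_ne_one).mp hX1
  have hx₁1 : x₁ ≠ 1 := fun h => hx₁1' (Subtype.ext h)
  obtain ⟨y₁, hy₁P, hy₁⟩ := (hV x₁).mp (hXV hx₁X)
  have hy₁P₁ : y₁ ∈ P₁ := (hP₁ y₁).mpr ⟨hy₁P, hy₁ ▸ hx₁X⟩
  obtain ⟨P₀, hP₀P₁, hFP₀, hcyc, hcard⟩ := exists_inv_cyclic_sub
    (fun x hx z hz => hPc x (hP₁P hx) z (hP₁P hz)) hFP₁ hcop a'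
    (fun x hx => hexp x (hP₁P hx)) hXP₁ hX (fun x hx => ((hP₁ x).mp hx).2)
    ⟨y₁, hy₁P₁, by rw [hy₁]; exact hx₁1⟩
  refine ⟨P₀, hP₀P₁.trans hP₁P, hFP₀, hcyc, fun x hx => by rw [hcard]; exact hexp x hx, ?_⟩
  intro x hxP₀ hx1
  obtain ⟨g₀, hg₀⟩ := IsCyclic.exists_generator (α := P₀)
  have hg₀ord : orderOf (g₀ : G) = p ^ (a' + 1) := by
    rw [Subgroup.orderOf_coe, ← hcard]
    exact orderOf_eq_card_of_forall_mem_zpowers hg₀
  have hxk : x ^ p ^ (a' + 1) = 1 := hexp x (hP₁P (hP₀P₁ hxP₀))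
  obtain ⟨j, hj⟩ := exists_pow_orderOf_prime hx1 hxk
  have hzP₀ : x ^ j ∈ P₀ := P₀.pow_mem hxP₀ j
  have hzp : (x ^ j) ^ p = 1 := by rw [← hj]; exact pow_orderOf_eq_one _
  have hz1 : x ^ j ≠ 1 := by
    intro h
    rw [h, orderOf_one] at hj
    exact c.prime.one_lt.ne hj
  have hzX : x ^ j ∈ X := by
    obtain ⟨i, hi⟩ := Subgroup.mem_zpowers_iff.mp (hg₀ ⟨x ^ j, hzP₀⟩)
    have hi' : (g₀ : G) ^ i = x ^ j := by
      have := congrArg Subtype.val hi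
      simpa using this
    have h1 : (g₀ : G) ^ (i * (p : ℤ)) = 1 := by
      rw [zpow_mul, hi', zpow_natCast, hzp]
    have h2 : ((orderOf (g₀ : G) : ℕ) : ℤ) ∣ i * (p : ℤ) := orderOf_dvd_iff_zpow_eq_one.mpr h1
    rw [hg₀ord] at h2
    have h3 : ((p ^ a' : ℕ) : ℤ) ∣ i := by
      have hp0 : (p : ℤ) ≠ 0 := by exact_mod_cast c.prime.ne_zero
      apply Int.dvd_of_mul_dvd_mul_right hp0
      have : ((p ^ (a' + 1) : ℕ) : ℤ) = ((p ^ a' : ℕ) : ℤ) * (p : ℤ) := by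
        push_cast; ring
      rw [← this]; exact h2
    obtain ⟨t, ht⟩ := h3
    have hg₀X : (g₀ : G) ^ p ^ a' ∈ X := ((hP₁ _).mp (hP₀P₁ g₀.2)).2
    rw [← hi', ht, zpow_mul, zpow_natCast]
    exact X.zpow_mem hg₀X t
  have hXz : X ≤ Subgroup.zpowers (x ^ j) := fun w hw =>
    mem_zpowers_of_card_prime hX hzX hz1 hw
  rw [eq_bot_iff]
  rintro w ⟨hwσ, hwC⟩
  have hwC' : w ∈ Subgroup.centralizer ({x} : Set G) := hwC
  rw [← hreg]
  refine ⟨hwσ, ?_⟩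
  apply Subgroup.centralizer_le hXz
  apply centralizer_singleton_le_zpowers
  rw [Subgroup.mem_centralizer_iff] at hwC' ⊢
  intro v hv
  rw [Set.mem_singleton_iff] at hv
  rw [hv]
  have h1 : Commute x w := hwC' x rfl
  exact (h1.pow_left j).eq

end Cfsg.Agent.Lib.Helper1.BG12b
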