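import Mathlib
import Cfsg.Agent.Lib.Helper1.BG12b.PZero

set_option autoImplicit false

namespace Cfsg.Agent.Lib.Helper1.BG12b

open Cfsg Cfsg.Agent.Lib.Helper18 Cfsg.Agent.Lib.Helper28.BGt
open scoped commutatorElement

variable {G : Type*} [Group G] [Finite G]

structure GoodSyl (M U Y : Subgroup G) (q : ℕ) (P₀ : Subgroup G) : Prop where
  syl : IsSylowIn q P₀ Y
  cyc : IsCyclic P₀
  exp : ∀ x ∈ U, (∃ k : ℕ, x ^ q ^ k = 1) → x ^ Nat.card P₀ = 1
  reg : ∀ x ∈ P₀, x ≠ 1 → Cfsg.sigmaCore M ⊓ Subgroup.centralizer ({x} : Set G) = ⊥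

theorem exists_isSylowIn (q : ℕ) [Fact q.Prime] (H : Subgroup G) :
    ∃ Q : Subgroup G, IsSylowIn q Q H := by
  obtain ⟨Q'⟩ : Nonempty (Sylow q ↥H) := inferInstance
  exact ⟨_, isSylowIn_of_sylow Q'⟩

theorem isSylowIn_of_relIndex {q : ℕ} {Q H K : Subgroup G} (hQ : IsSylowIn q Q H)
    (hq : q.Prime) (hHK : H ≤ K) (hn : ¬ q ∣ H.relIndex K) : IsSylowIn q Q K := by
  refine ⟨hQ.le.trans hHK, hQ.isPGroup, ?_⟩
  rw [← Subgroup.relIndex_mul_relIndex Q H K hQ.le hHK]
  intro hd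
  rcases (Nat.Prime.dvd_mul hq).mp hd with h | h
  · exact hQ.not_dvd h
  · exact hn h

theorem final_lemma {M E U : Subgroup G} (c : RegCtx M E U) {Y : Subgroup G} (hYU : Y ≤ U)
    (h1 : ∀ q ∈ Cfsg.tau2 M, q ∣ Nat.card U → ∃ P₀ : Subgroup G, GoodSyl M U Y q P₀)
    (h2 : ∀ r ∈ Cfsg.tau1 M ∪ Cfsg.tau3 M, r.Prime → ¬ r ∣ Y.relIndex U) :
    Monoid.exponent Y = Monoid.exponent U ∧
      ∀ u ∈ Y, u ≠ 1 → Cfsg.sigmaCore M ⊓ Subgroup.centralizer ({u} : Set G) = ⊥ := by
  constructor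
  · apply Nat.dvd_antisymm
    · exact Monoid.exponent_dvd_of_monoidHom (Subgroup.inclusion hYU)
        (Subgroup.inclusion_injective hYU)
    · apply Monoid.exponent_dvd_of_forall_pow_eq_one
      rintro ⟨u, hu⟩
      apply Subtype.ext
      show (u ^ Monoid.exponent ↥Y : G) = 1
      apply orderOf_dvd_iff_pow_eq_one.mp
      refine (Nat.dvd_iff_prime_pow_dvd_dvd _ _).2 fun r k hr hrk => ?_
      have hrf : Fact r.Prime := ⟨hr⟩
      by_cases hk0 : k = 0
      · rw [hk0, pow_zero]; exact one_dvd _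
      have hx0 : orderOf u ≠ 0 := (orderOf_pos u).ne'
      obtain ⟨u', hu'⟩ : ∃ u' : G, u' = u ^ (orderOf u / r ^ k) := ⟨_, rfl⟩
      have hu'o : orderOf u' = r ^ k := hu' ▸ orderOf_pow_orderOf_div hx0 hrk
      have hu'U : u' ∈ U := hu' ▸ U.pow_mem hu _
      have hu'k : u' ^ r ^ k = 1 := by rw [← hu'o]; exact pow_orderOf_eq_one u'
      have hrU : r ∣ Nat.card U :=
        ((dvd_pow_self r hk0).trans hrk).trans (Subgroup.orderOf_dvd_natCard U hu)
      have hrE : r ∣ Nat.card E := hrU.trans (Subgroup.card_dvd_of_le c.hUE)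
      rcases prime_tau c.hG c.hM c.hE hr hrE with hτ | hτ
      · obtain ⟨S, hS⟩ := exists_isSylowIn r Y
        have hSU : IsSylowIn r S U := isSylowIn_of_relIndex hS hr hYU (h2 r hτ hr)
        obtain ⟨t, ht, hle⟩ := hSU.exists_conj_le (Subgroup.zpowers_le.mpr hu'U)
          (isPGroup_of_orderOf hu'k)
        have hmem : t * u' * t⁻¹ ∈ Y := hS.le (hle (conj_mem_conjSub (Subgroup.mem_zpowers u')))
        have hord : orderOf (t * u' * t⁻¹) = r ^ k := by
          rw [← hu'o]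
          have := orderOf_injective (MulAut.conj t).toMonoidHom (MulAut.conj t).injective u'
          simpa using this
        have h3 : orderOf (⟨t * u' * t⁻¹, hmem⟩ : Y) ∣ Monoid.exponent ↥Y :=
          Monoid.order_dvd_exponent _
        rw [Subgroup.orderOf_mk, hord] at h3
        exact h3
      · obtain ⟨P₀, hP₀⟩ := h1 r hτ hrU
        have h3 := hP₀.exp u' hu'U ⟨k, hu'k⟩
        have h4 : r ^ k ∣ Nat.card P₀ := by
          rw [← hu'o]; exact orderOf_dvd_of_pow_eq_one h3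
        obtain ⟨g₀, hg₀⟩ := hP₀.cyc.exists_generator
        have hg₀ord : orderOf (g₀ : G) = Nat.card P₀ := by
          rw [Subgroup.orderOf_coe]
          exact orderOf_eq_card_of_forall_mem_zpowers hg₀
        have h5 : orderOf (⟨(g₀ : G), hP₀.syl.le g₀.2⟩ : Y) ∣ Monoid.exponent ↥Y :=
          Monoid.order_dvd_exponent _
        rw [Subgroup.orderOf_mk, hg₀ord] at h5
        exact h4.trans h5
  · intro u hu hu1
    by_contra hne
    obtain ⟨⟨y, hy⟩, hy1'⟩ := (Subgroup.ne_bot_iff_exists_ne_one).mp hne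
    have hy1 : y ≠ 1 := fun h => hy1' (Subtype.ext h)
    have huy : u * y = y * u := (Subgroup.mem_centralizer_iff.mp hy.2) u rfl
    have hne1 : orderOf u ≠ 1 := fun h => hu1 (orderOf_eq_one_iff.mp h)
    obtain ⟨q, hq, hqd⟩ := Nat.exists_prime_and_dvd hne1
    have hqf : Fact q.Prime := ⟨hq⟩
    have hτ := c.nonreg_tau2 (hYU hu) hq hqd hy.1 hy1 huy
    have hqU : q ∣ Nat.card U := hqd.trans (Subgroup.orderOf_dvd_natCard U (hYU hu))
    obtain ⟨P₀, hP₀⟩ := h1 q hτ hqU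
    have hx0 : orderOf u ≠ 0 := (orderOf_pos u).ne'
    obtain ⟨v, hv⟩ : ∃ v : G, v = u ^ (orderOf u / q) := ⟨_, rfl⟩
    have hvo : orderOf v = q := hv ▸ orderOf_pow_orderOf_div hx0 hqd
    have hvY : v ∈ Y := hv ▸ Y.pow_mem hu _
    have hvy : v * y = y * v := hv ▸ ((Commute.pow_left (show Commute u y from huy) _)).eq
    have hvq : v ^ q ^ 1 = 1 := by rw [pow_one, ← hvo]; exact pow_orderOf_eq_one v
    obtain ⟨t, ht, hle⟩ := hP₀.syl.exists_conj_le (Subgroup.zpowers_le.mpr hvY)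
      (isPGroup_of_orderOf hvq)
    have hmem : t * v * t⁻¹ ∈ P₀ := hle (conj_mem_conjSub (Subgroup.mem_zpowers v))
    have hv1 : v ≠ 1 := by
      intro h
      rw [h, orderOf_one] at hvo
      exact hq.one_lt.ne hvo
    have hne' : t * v * t⁻¹ ≠ 1 := by
      intro h
      apply hv1
      have : v = t⁻¹ * (t * v * t⁻¹) * t := by group
      rw [this, h]; group
    have hreg := hP₀.reg _ hmem hne'
    have htM : t ∈ M := c.hUM (hYU ht)
    have h3 : t * y * t⁻¹ ∈ Cfsg.sigmaCore M ⊓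
        Subgroup.centralizer ({t * v * t⁻¹} : Set G) := by
      apply mem_inf_centralizer_singleton
        (conj_mem_of_le_normalizer (le_normalizer_sigmaCore M) htM hy.1)
      calc t * v * t⁻¹ * (t * y * t⁻¹) = t * (v * y) * t⁻¹ := by group
        _ = t * (y * v) * t⁻¹ := by rw [hvy]
        _ = t * y * t⁻¹ * (t * v * t⁻¹) := by group
    rw [hreg, Subgroup.mem_bot] at h3
    apply hy1
    have : y = t⁻¹ * (t * y * t⁻¹) * t := by group
    rw [this, h3]; group

end Cfsg.Agent.Lib.Helper1.BG12b
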