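import Mathlib
import Cfsg.Agent.Lib.Helper1.BG12b.AbelTwo

set_option autoImplicit false

namespace Cfsg.Agent.Lib.Helper1.BG12b

open Cfsg Cfsg.Agent.Lib.Helper18 Cfsg.Agent.Lib.Helper28.BGt
open scoped commutatorElement

variable {G : Type*} [Group G] [Finite G]

def tau2Gens (M E : Subgroup G) : Set G :=
  {e | e ∈ E ∧ ∃ q ∈ Cfsg.tau2 M, ∃ k : ℕ, e ^ q ^ k = 1}

theorem exists_normal_sylow (hG : Cfsg.IsMinSimpleOddOrder G) (h16 : T1416 G) (h17 : T1417 G)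
    (nc : NC G) {M E : Subgroup G} (hM : IsCoatom M)
    (hE : Cfsg.IsComplIn E (Cfsg.sigmaCore M) M) {q : ℕ} (hq : q ∈ Cfsg.tau2 M)
    (hab : ∃ S : Sylow q G, IsMulCommutative (S : Subgroup G)) :
    ∃ (A : Subgroup G) (S : Sylow q G), Tau2Ctx M E q A ∧ A ≤ (S : Subgroup G) ∧
      IsSylowIn q (S : Subgroup G) E ∧ IsSylowIn q (S : Subgroup G) M ∧
      E ≤ Subgroup.normalizer ((S : Subgroup G) : Set G) ∧
      ∀ a ∈ (S : Subgroup G), ∀ b ∈ (S : Subgroup G), a * b = b * a := by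
  have hqf : Fact q.Prime := ⟨hq.1⟩
  obtain ⟨S₀, hS₀⟩ := hab
  obtain ⟨A, hAE, hAe, hA2⟩ := exists_sq_le_compl hG hM hE hq
  have c : Tau2Ctx M E q A := ⟨hG, h16, h17, hM, hE, hq, hAE, hAe, hA2⟩
  obtain ⟨P, hAP, hPE, hPM⟩ := c.exists_sylow
  obtain ⟨S, hS⟩ := sylow_of_abelian c S₀ hS₀ hAP hPM
  have hcomm := all_sylow_comm S₀ hS₀ S
  have hAS : A ≤ (S : Subgroup G) := hS ▸ hAP
  have hSE : IsSylowIn q (S : Subgroup G) E := hS ▸ hPE
  have hSM : IsSylowIn q (S : Subgroup G) M := hS ▸ hPM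
  exact ⟨A, S, c, hAS, hSE, hSM, sylow_normal_abel c nc S hAS hSE hSM hcomm, hcomm⟩

theorem mem_normal_sylow {q : ℕ} [hq : Fact q.Prime] {P E : Subgroup G} (hP : IsSylowIn q P E)
    (hn : E ≤ Subgroup.normalizer (P : Set G)) {e : G} (he : e ∈ E) {k : ℕ}
    (hek : e ^ q ^ k = 1) : e ∈ P := by
  have hz : IsPGroup q (Subgroup.zpowers e) := isPGroup_of_orderOf hek
  obtain ⟨x, hx, hle⟩ := hP.exists_conj_le (Subgroup.zpowers_le.mpr he) hz
  have h1 : x * e * x⁻¹ ∈ P := hle (conj_mem_conjSub (Subgroup.mem_zpowers e))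
  have h2 := conj_mem_of_le_normalizer hn (E.inv_mem hx) h1
  have e1 : x⁻¹ * (x * e * x⁻¹) * x⁻¹⁻¹ = e := by group
  rw [e1] at h2
  exact h2

theorem gens_commute (hG : Cfsg.IsMinSimpleOddOrder G) (h16 : T1416 G) (h17 : T1417 G)
    (nc : NC G) {M E : Subgroup G} (hM : IsCoatom M)
    (hE : Cfsg.IsComplIn E (Cfsg.sigmaCore M) M)
    (hab : ∀ q ∈ Cfsg.tau2 M, ∃ S : Sylow q G, IsMulCommutative (S : Subgroup G))
    {e f : G} (he : e ∈ tau2Gens M E) (hf : f ∈ tau2Gens M E) : e * f = f * e := by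
  obtain ⟨heE, q, hq, k, hek⟩ := he
  obtain ⟨hfE, r, hr, j, hfj⟩ := hf
  have hqf : Fact q.Prime := ⟨hq.1⟩
  have hrf : Fact r.Prime := ⟨hr.1⟩
  obtain ⟨-, S, -, -, hSE, -, hSn, hScomm⟩ :=
    exists_normal_sylow hG h16 h17 nc hM hE hq (hab q hq)
  obtain ⟨-, T, -, -, hTE, -, hTn, hTcomm⟩ :=
    exists_normal_sylow hG h16 h17 nc hM hE hr (hab r hr)
  have heS : e ∈ (S : Subgroup G) := mem_normal_sylow hSE hSn heE hek
  have hfT : f ∈ (T : Subgroup G) := mem_normal_sylow hTE hTn hfE hfj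
  by_cases hqr : q = r
  · subst hqr
    have hfS : f ∈ (S : Subgroup G) := mem_normal_sylow hSE hSn hfE hfj
    exact hScomm e heS f hfS
  · have hdis : (S : Subgroup G) ⊓ (T : Subgroup G) = ⊥ :=
      disjoint_iff.mp (IsPGroup.disjoint_of_ne q r hqr _ _ S.isPGroup' T.isPGroup')
    exact commute_of_normalize_of_inf_eq_bot (hSE.le.trans hTn) (hTE.le.trans hSn) hdis heS hfT

theorem tau2elem_mem_closure {M E : Subgroup G} {e : G} (he : e ∈ E)
    (hτ : ∀ q : ℕ, q.Prime → q ∣ orderOf e → q ∈ Cfsg.tau2 M) :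
    e ∈ Subgroup.closure (tau2Gens M E) := by
  have hle : Subgroup.zpowers e ≤ Subgroup.closure (tau2Gens M E) := by
    apply Cfsg.Agent.Lib.Helper1.sylow_le_imp_le
    intro q hq
    obtain ⟨Q'⟩ : Nonempty (Sylow q ↥(Subgroup.zpowers e)) := inferInstance
    refine ⟨Q', ?_⟩
    rintro _ ⟨y, hy, rfl⟩
    by_cases hy1 : y = 1
    · rw [hy1]; exact Subgroup.one_mem _
    apply Subgroup.subset_closure
    obtain ⟨k, hk⟩ := Q'.isPGroup' ⟨y, hy⟩
    have hk' : (y : G) ^ q ^ k = 1 := by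
      have := congrArg Subtype.val (congrArg Subtype.val hk)
      simpa using this
    have hyE : (y : G) ∈ E := Subgroup.zpowers_le.mpr he y.2
    refine ⟨hyE, q, ?_, k, hk'⟩
    apply hτ q hq.out
    have h1 : orderOf (y : G) ∣ q ^ k := orderOf_dvd_of_pow_eq_one hk'
    have h2 : orderOf (y : G) ≠ 1 := by
      intro h
      apply hy1
      apply Subtype.ext
      exact orderOf_eq_one_iff.mp h
    obtain ⟨m, -, hm⟩ := (Nat.dvd_prime_pow hq.out).mp h1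
    have hm0 : m ≠ 0 := by
      rintro rfl
      rw [pow_zero] at hm
      exact h2 hm
    have h3 : q ∣ orderOf (y : G) := by rw [hm]; exact dvd_pow_self q hm0
    have h4 : orderOf (y : G) ∣ orderOf e := by
      have := Subgroup.orderOf_dvd_natCard (Subgroup.zpowers e) y.2
      rwa [Nat.card_zpowers] at this
    exact h3.trans h4
  exact hle (Subgroup.mem_zpowers e)

theorem part_one_abel {M E U : Subgroup G} (c : RegCtx M E U)
    (hab : ∀ q ∈ Cfsg.tau2 M, ∃ S : Sylow q G, IsMulCommutative (S : Subgroup G)) :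
    ∃ A₀ : Subgroup G, A₀ ≤ U ∧ E ≤ Subgroup.normalizer (A₀ : Set G) ∧ IsMulCommutative A₀ ∧
      ∀ x ∈ Cfsg.sigmaCore M, x ≠ 1 → U ⊓ Subgroup.centralizer ({x} : Set G) ≤ A₀ := by
  have hcl : IsMulCommutative (Subgroup.closure (tau2Gens M E)) :=
    Subgroup.isMulCommutative_closure
      (fun e he f hf => gens_commute c.hG c.h16 c.h17 c.nc c.hM c.hE hab he hf)
  have hnorm : E ≤ Subgroup.normalizer ((Subgroup.closure (tau2Gens M E) : Subgroup G) : Set G) := by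
    intro g hg
    apply mem_normalizer_of_conjSub_le
    rw [conjSub_le_iff, Subgroup.closure_le]
    rintro e ⟨heE, q, hq, k, hek⟩
    show e ∈ conjSub g⁻¹ (Subgroup.closure (tau2Gens M E))
    rw [mem_conjSub]
    apply Subgroup.subset_closure
    refine ⟨E.mul_mem (E.mul_mem (E.inv_mem (E.inv_mem hg)) heE) (E.inv_mem hg), q, hq, k, ?_⟩
    have e1 : g⁻¹⁻¹ * e * g⁻¹ = g * e * g⁻¹ := by group
    rw [e1, conj_pow, hek]
    group
  refine ⟨Subgroup.closure (tau2Gens M E) ⊓ U, inf_le_right, ?_, ?_, ?_⟩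
  · intro g hg
    have h1 := hnorm hg
    have h2 := c.hUN hg
    rw [Subgroup.mem_normalizer_iff] at h1 h2 ⊢
    intro y
    constructor
    · rintro ⟨hy1, hy2⟩
      exact ⟨(h1 y).mp hy1, (h2 y).mp hy2⟩
    · rintro ⟨hy1, hy2⟩
      exact ⟨(h1 y).mpr hy1, (h2 y).mpr hy2⟩
  · refine ⟨⟨?_⟩⟩
    rintro ⟨a, ha⟩ ⟨b, hb⟩
    apply Subtype.ext
    have := hcl.is_comm.comm ⟨a, ha.1⟩ ⟨b, hb.1⟩
    simpa using congrArg Subtype.val this
  · rintro x hx hx1 e ⟨heU, heC⟩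
    refine ⟨?_, heU⟩
    apply tau2elem_mem_closure (c.hUE heU)
    intro q hq hqd
    have hex : e * x = x * e := by
      have := (Subgroup.mem_centralizer_iff.mp heC) x rfl
      exact this.symm
    exact c.nonreg_tau2 heU hq hqd hx hx1 hex

theorem part_one_nonab {M E U : Subgroup G} (c : RegCtx M E U) {p : ℕ} (hp : p ∈ Cfsg.tau2 M)
    (hS : ∀ S : Sylow p G, ¬ IsMulCommutative (S : Subgroup G)) :
    ∃ A₀ : Subgroup G, A₀ ≤ U ∧ E ≤ Subgroup.normalizer (A₀ : Set G) ∧ IsMulCommutative A₀ ∧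
      ∀ x ∈ Cfsg.sigmaCore M, x ≠ 1 → U ⊓ Subgroup.centralizer ({x} : Set G) ≤ A₀ := by
  obtain ⟨A, hAE, hAe, hA2⟩ := exists_sq_le_compl c.hG c.hM c.hE hp
  have c2 : Tau2Ctx M E p A := ⟨c.hG, c.h16, c.h17, c.hM, c.hE, hp, hAE, hAe, hA2⟩
  obtain ⟨hτ, -, -⟩ := c2.twelve_seven c.nc c.h12 hS
  have hnorm := c2.A0_normal
  refine ⟨(A ⊓ Subgroup.centralizer (Cfsg.sigmaCore M : Set G)) ⊓ U, inf_le_right, ?_, ?_, ?_⟩
  · intro g hg
    have h1 := hnorm (c.hE.1 hg)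
    have h2 := c.hUN hg
    rw [Subgroup.mem_normalizer_iff] at h1 h2 ⊢
    intro y
    constructor
    · rintro ⟨hy1, hy2⟩
      exact ⟨(h1 y).mp hy1, (h2 y).mp hy2⟩
    · rintro ⟨hy1, hy2⟩
      exact ⟨(h1 y).mpr hy1, (h2 y).mpr hy2⟩
  · refine ⟨⟨?_⟩⟩
    rintro ⟨a, ha⟩ ⟨b, hb⟩
    apply Subtype.ext
    exact c2.A_comm ha.1.1 hb.1.1
  · rintro x hx hx1 e ⟨heU, heC⟩
    refine ⟨?_, heU⟩
    have hex : e * x = x * e := by
      have := (Subgroup.mem_centralizer_iff.mp heC) x rfl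
      exact this.symm
    apply nonab_mem_A0 c2 c.nc c.h12 hS (c.hUE heU) _ hx hx1 hex
    intro q hq hqd
    have := c.nonreg_tau2 heU hq hqd hx hx1 hex
    rw [hτ] at this
    exact this

theorem part_one {M E U : Subgroup G} (c : RegCtx M E U) :
    ∃ A₀ : Subgroup G, A₀ ≤ U ∧ E ≤ Subgroup.normalizer (A₀ : Set G) ∧ IsMulCommutative A₀ ∧
      ∀ x ∈ Cfsg.sigmaCore M, x ≠ 1 → U ⊓ Subgroup.centralizer ({x} : Set G) ≤ A₀ := by
  by_cases h : ∀ q ∈ Cfsg.tau2 M, ∃ S : Sylow q G, IsMulCommutative (S : Subgroup G)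
  · exact part_one_abel c h
  · push Not at h
    obtain ⟨p, hp, hS⟩ := h
    exact part_one_nonab c hp hS

end Cfsg.Agent.Lib.Helper1.BG12b
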