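import Mathlib
import Cfsg.Agent.Lib.Helper1.BG12b.FinalLemma
import Cfsg.Agent.Lib.Helper1.BG12b.PartOne

set_option autoImplicit false

namespace Cfsg.Agent.Lib.Helper1.BG12b

open Cfsg Cfsg.Agent.Lib.Helper18 Cfsg.Agent.Lib.Helper28.BGt
open scoped commutatorElement

variable {G : Type*} [Group G] [Finite G]

theorem prime_eq_of_dvd_card {q : ℕ} [hq : Fact q.Prime] {P : Subgroup G} (hP : IsPGroup q P)
    {r : ℕ} (hr : r.Prime) (hrd : r ∣ Nat.card P) : r = q := by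
  obtain ⟨n, hn⟩ := IsPGroup.iff_card.mp hP
  rw [hn] at hrd
  exact (Nat.prime_dvd_prime_iff_eq hr hq.out).mp (hr.dvd_of_dvd_pow hrd)

theorem assem_abel {M E U : Subgroup G} (c : RegCtx M E U) (h13 : T1427 G)
    (hU2 : ∀ q ∈ Cfsg.tau2 M, ¬ q ∣ U.relIndex E)
    (hab : ∀ q ∈ Cfsg.tau2 M, ∃ S : Sylow q G, IsMulCommutative (S : Subgroup G)) :
    ∃ Y : Subgroup G, Y ≤ U ∧
      (∀ q ∈ Cfsg.tau2 M, q ∣ Nat.card U → ∃ P₀ : Subgroup G, GoodSyl M U Y q P₀) ∧
      ∀ r ∈ Cfsg.tau1 M ∪ Cfsg.tau3 M, r.Prime → ¬ r ∣ Y.relIndex U := by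
  classical
  have hUs : Group.IsSolvable U := compl_solvable c.hG c.hM c.hUM
  obtain ⟨F, hF⟩ := exists_piHallOf (Cfsg.tau1 M ∪ Cfsg.tau3 M) U
  have key : ∀ s : Finset ℕ, (∀ q ∈ s, q ∈ Cfsg.tau2 M) →
      ∃ Y : Subgroup G, F ≤ Y ∧ Y ≤ U ∧
        (∀ r : ℕ, r.Prime → r ∣ Nat.card Y → r ∈ Cfsg.tau1 M ∪ Cfsg.tau3 M ∨ r ∈ s) ∧
        ∀ q ∈ s, ∃ P₀ : Subgroup G, GoodSyl M U Y q P₀ := by
    intro s
    induction s using Finset.induction_on with
    | empty =>
      intro _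
      exact ⟨F, le_refl F, hF.1, fun r hr hrd => Or.inl (hF.2.1 r hr hrd),
        fun q hq => absurd hq (Finset.notMem_empty q)⟩
    | insert q s hqs ih =>
      intro hall
      obtain ⟨Y, hFY, hYU, hpr, hgood⟩ :=
        ih (fun q' hq' => hall q' (Finset.mem_insert_of_mem hq'))
      have hq : q ∈ Cfsg.tau2 M := hall q (Finset.mem_insert_self q s)
      have hqf : Fact q.Prime := ⟨hq.1⟩
      obtain ⟨A, S, ctx, hAS, hSE, hSM, hSn, hScomm⟩ :=
        exists_normal_sylow c.hG c.h16 c.h17 c.nc c.hM c.hE hq (hab q hq)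
      obtain ⟨Q, hQ⟩ := exists_isSylowIn q U
      have hQE : IsSylowIn q Q E := isSylowIn_of_relIndex hQ hq.1 c.hUE (hU2 q hq)
      have hQS : Q ≤ (S : Subgroup G) := le_normal_sylow hSE hSn hQE.le hQE.isPGroup
      have hSQ : (S : Subgroup G) = Q := hQE.eq_of_le hSE.le S.isPGroup' hQS
      have hSU : (S : Subgroup G) ≤ U := by rw [hSQ]; exact hQ.le
      have hqY : ¬ q ∣ Nat.card Y := by
        intro hd
        rcases hpr q hq.1 hd with h | h
        · exact tau13_not_tau2 h hq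
        · exact hqs h
      have hcop : (Nat.card Y).Coprime q := ((Nat.Prime.coprime_iff_not_dvd hq.1).mpr hqY).symm
      have hYE : Y ≤ E := hYU.trans c.hUE
      have hregY : ∀ x ∈ Y, ∀ r : ℕ, r.Prime → orderOf x = r →
          r ∈ Cfsg.tau1 M ∪ Cfsg.tau3 M →
          Cfsg.sigmaCore M ⊓ Subgroup.centralizer ({x} : Set G) = ⊥ :=
        fun x hx r hr hxo hτ => c.prime_order_regular (hYU hx) hr hxo hτ
      obtain ⟨P₀, hP₀S, hYP₀, hcyc, hexp, hreg⟩ :=
        exists_P0 ctx c.nc c.h12 h13 hAS hSM hYE (hYE.trans hSn) hcop hregY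
      have hP₀q : IsPGroup q P₀ := S.isPGroup'.to_le hP₀S
      have hinf : Y ⊓ P₀ = ⊥ := by
        apply Cfsg.Agent.Lib.Helper1.BG15.eq_bot_of_forall_prime_not_dvd
        intro r hr hrd
        have h1 : r ∣ Nat.card P₀ := hrd.trans (Subgroup.card_dvd_of_le inf_le_right)
        have h2 : r ∣ Nat.card Y := hrd.trans (Subgroup.card_dvd_of_le inf_le_left)
        rw [prime_eq_of_dvd_card hP₀q hr h1] at h2
        exact hqY h2
      have hcardY' : Nat.card (Y ⊔ P₀ : Subgroup G) = Nat.card Y * Nat.card P₀ :=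
        card_sup_of_inf_eq_bot hYP₀ hinf
      refine ⟨Y ⊔ P₀, hFY.trans le_sup_left, sup_le hYU (hP₀S.trans hSU), ?_, ?_⟩
      · intro r hr hrd
        rw [hcardY'] at hrd
        rcases (Nat.Prime.dvd_mul hr).mp hrd with h | h
        · rcases hpr r hr h with h' | h'
          · exact Or.inl h'
          · exact Or.inr (Finset.mem_insert_of_mem h')
        · right
          rw [prime_eq_of_dvd_card hP₀q hr h]
          exact Finset.mem_insert_self q s
      · intro q' hq'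
        rcases Finset.mem_insert.mp hq' with rfl | hq's
        · refine ⟨P₀, ⟨⟨le_sup_right, hP₀q, ?_⟩, hcyc, ?_, hreg⟩⟩
          · have h1 := Cfsg.Agent.Lib.Helper1.BG12.card_mul_relIndex_of_le
              (le_sup_right : P₀ ≤ Y ⊔ P₀)
            rw [hcardY', mul_comm (Nat.card Y)] at h1
            have h2 : P₀.relIndex (Y ⊔ P₀) = Nat.card Y :=
              Nat.eq_of_mul_eq_mul_left Nat.card_pos h1
            rw [h2]; exact hqY
          · rintro x hxU ⟨k, hxk⟩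
            exact hexp x (mem_normal_sylow hSE hSn (c.hUE hxU) hxk)
        · obtain ⟨P₀', hg⟩ := hgood q' hq's
          have hq'τ : q' ∈ Cfsg.tau2 M := hall q' hq'
          refine ⟨P₀', ⟨?_, hg.cyc, hg.exp, hg.reg⟩⟩
          apply isSylowIn_of_relIndex hg.syl hq'τ.1 le_sup_left
          rw [relIndex_sup_of_le_normalizer Y P₀ hYP₀]
          intro hd
          have h1 : q' ∣ Nat.card P₀ := hd.trans (Subgroup.relIndex_dvd_card _ _)
          have h2 := prime_eq_of_dvd_card hP₀q hq'τ.1 h1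
          rw [h2] at hq's
          exact hqs hq's
  obtain ⟨Y, hFY, hYU, -, hgood⟩ :=
    key ((Nat.card U).primeFactors.filter (fun q => q ∈ Cfsg.tau2 M))
      (fun q hq => (Finset.mem_filter.mp hq).2)
  refine ⟨Y, hYU, ?_, ?_⟩
  · intro q hq hqU
    apply hgood
    rw [Finset.mem_filter, Nat.mem_primeFactors]
    exact ⟨⟨hq.1, hqU, Nat.card_pos.ne'⟩, hq⟩
  · intro r hτ hr hd
    apply hF.2.2 r hr hτ
    rw [← Subgroup.relIndex_mul_relIndex F Y U hFY hYU]
    exact Dvd.dvd.mul_left hd _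

end Cfsg.Agent.Lib.Helper1.BG12b
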