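import Mathlib
import Cfsg.Agent.Lib.Helper1.BG12b.AssemAb

set_option autoImplicit false

namespace Cfsg.Agent.Lib.Helper1.BG12b

open Cfsg Cfsg.Agent.Lib.Helper18 Cfsg.Agent.Lib.Helper28.BGt
open scoped commutatorElement

variable {G : Type*} [Group G] [Finite G]

theorem derived_le_sup_E3 {M E : Subgroup G} {p : ℕ} {A : Subgroup G} (c : Tau2Ctx M E p A)
    (hτ : Cfsg.tau2 M = {p}) [hpf : Fact p.Prime] {P : Subgroup G} (hPE : IsSylowIn p P E)
    {E₃ : Subgroup G} (hE₃ : Cfsg.IsPiHallOf (Cfsg.tau3 M) E₃ E)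
    (hn : E ≤ Subgroup.normalizer (E₃ : Set G)) : ⁅E, E⁆ ≤ P ⊔ E₃ := by
  obtain ⟨hnil, -, -⟩ := Cfsg.Agent.Lib.Helper1.BG12.twelve_one c.hG M c.hM E c.hE
  have hDE : ⁅E, E⁆ ≤ E := Subgroup.commutator_le_self E
  have hEND : E ≤ Subgroup.normalizer ((⁅E, E⁆ : Subgroup G) : Set G) :=
    Subgroup.le_normalizer.trans (Cfsg.Agent.Lib.Helper1.le_normalizer_commutator_self E)
  apply Cfsg.Agent.Lib.Helper1.sylow_le_imp_le
  intro r hr
  obtain ⟨R'⟩ : Nonempty (Sylow r ↥⁅E, E⁆) := inferInstance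
  refine ⟨R', ?_⟩
  obtain ⟨R, hRdef⟩ : ∃ R : Subgroup G, R = (R' : Subgroup ↥⁅E, E⁆).map (Subgroup.subtype _) :=
    ⟨_, rfl⟩
  rw [← hRdef]
  have hRS : IsSylowIn r R ⁅E, E⁆ := hRdef ▸ isSylowIn_of_sylow R'
  have hRn : E ≤ Subgroup.normalizer (R : Set G) :=
    Cfsg.Agent.Lib.Helper1.BG12.sylow_normal_of_nilpotent _ R r hnil hRS E hEND
  have hRE : R ≤ E := hRS.le.trans hDE
  by_cases hR1 : R = ⊥
  · rw [hR1]; exact bot_le
  have hrR : r ∣ Nat.card R := dvd_card_of_ne_bot hRS.isPGroup hR1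
  have hrE : r ∣ Nat.card E := hrR.trans (Subgroup.card_dvd_of_le hRE)
  rcases prime_tau c.hG c.hM c.hE hr.out hrE with hτ' | hτ'
  · rcases hτ' with h1 | h3
    · exfalso
      apply h1.2.2.2.1
      have hRM : R ≤ ⁅M, M⁆ := hRS.le.trans (Subgroup.commutator_mono c.hEM c.hEM)
      exact hrR.trans (Subgroup.card_dvd_of_le hRM)
    · refine le_trans ?_ le_sup_right
      intro x hx
      apply mem_of_piHall_normal hE₃ hn (hRE hx)
      intro q hq hqd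
      rw [prime_eq_of_dvd_orderOf hRS.isPGroup hx hq hqd]
      exact h3
  · rw [hτ] at hτ'
    have hrp : r = p := hτ'
    subst hrp
    exact (normal_pgroup_le_sylow hPE hRE hRS.isPGroup (hPE.le.trans hRn)).trans le_sup_left

theorem assem_nonab {M E U : Subgroup G} (c : RegCtx M E U) (h13 : T1427 G)
    (hU2 : ∀ q ∈ Cfsg.tau2 M, ¬ q ∣ U.relIndex E) {p : ℕ} (hp : p ∈ Cfsg.tau2 M)
    (hS : ∀ S : Sylow p G, ¬ IsMulCommutative (S : Subgroup G)) :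
    ∃ Y : Subgroup G, Y ≤ U ∧
      (∀ q ∈ Cfsg.tau2 M, q ∣ Nat.card U → ∃ P₀ : Subgroup G, GoodSyl M U Y q P₀) ∧
      ∀ r ∈ Cfsg.tau1 M ∪ Cfsg.tau3 M, r.Prime → ¬ r ∣ Y.relIndex U := by
  have hpf : Fact p.Prime := ⟨hp.1⟩
  obtain ⟨A, hAE, hAe, hA2⟩ := exists_sq_le_compl c.hG c.hM c.hE hp
  have ctx : Tau2Ctx M E p A := ⟨c.hG, c.h16, c.h17, c.hM, c.hE, hp, hAE, hAe, hA2⟩
  obtain ⟨hτ, -, -⟩ := ctx.twelve_seven c.nc c.h12 hS
  by_cases hpU : p ∣ Nat.card U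
  swap
  · refine ⟨U, le_refl U, ?_, ?_⟩
    · intro q hq hqU
      rw [hτ] at hq
      have hqp : q = p := hq
      rw [hqp] at hqU
      exact absurd hqU hpU
    · intro r _ hr hd
      rw [Subgroup.relIndex_self] at hd
      exact hr.one_lt.ne' (Nat.dvd_one.mp hd)
  obtain ⟨P, hPU⟩ := exists_isSylowIn p U
  have hPE : IsSylowIn p P E := isSylowIn_of_relIndex hPU hp.1 c.hUE (hU2 p hp)
  have hPM : IsSylowIn p P M := sylow_compl c.hG c.hM c.hE hp.2.1 hPE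
  have hAP : A ≤ P :=
    normal_pgroup_le_sylow hPE hAE ctx.isPGroup_A (hPE.le.trans ctx.E_le_normalizer)
  obtain ⟨E₃, hE₃, hcyc₃, -, hn₃⟩ := exists_E3 c.hG c.hM c.hE
  obtain ⟨U₃, hU₃⟩ : ∃ U₃ : Subgroup G, U₃ = E₃ ⊓ U := ⟨_, rfl⟩
  have hU₃U : U₃ ≤ U := hU₃ ▸ inf_le_right
  have hU₃E₃ : U₃ ≤ E₃ := hU₃ ▸ inf_le_left
  have hUU₃ : U ≤ Subgroup.normalizer (U₃ : Set G) := by
    intro g hg
    have h1 := hn₃ (c.hUE hg)
    have h2 : g ∈ Subgroup.normalizer (U : Set G) := Subgroup.le_normalizer hg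
    rw [Subgroup.mem_normalizer_iff] at h1 h2 ⊢
    intro y
    rw [hU₃]
    constructor
    · rintro ⟨hy1, hy2⟩
      exact ⟨(h1 y).mp hy1, (h2 y).mp hy2⟩
    · rintro ⟨hy1, hy2⟩
      exact ⟨(h1 y).mpr hy1, (h2 y).mpr hy2⟩
  have hder := derived_le_sup_E3 ctx hτ hPE hE₃ hn₃
  obtain ⟨N, hN⟩ : ∃ N : Subgroup G, N = U ⊓ Subgroup.normalizer (P : Set G) := ⟨_, rfl⟩
  have hNU : N ≤ U := hN ▸ inf_le_left
  have hNP : N ≤ Subgroup.normalizer (P : Set G) := hN ▸ inf_le_right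
  have hPN : P ≤ N := hN ▸ le_inf hPU.le Subgroup.le_normalizer
  have hfrat : U ≤ N ⊔ U₃ := by
    intro g hg
    obtain ⟨L, hL⟩ : ∃ L : Subgroup G, L = P ⊔ U₃ := ⟨_, rfl⟩
    have hLU : L ≤ U := hL ▸ sup_le hPU.le hU₃U
    have hPL : IsSylowIn p P L := hPU.of_le (hL ▸ le_sup_left) hLU
    have hgL : g ∈ Subgroup.normalizer (L : Set G) := by
      apply mem_normalizer_of_conjSub_le
      rw [hL]
      unfold conjSub
      rw [Subgroup.map_sup]
      apply sup_le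
      · rintro _ ⟨x, hx, rfl⟩
        show (MulAut.conj g).toMonoidHom x ∈ P ⊔ U₃
        simp only [MulEquiv.coe_toMonoidHom, MulAut.conj_apply]
        have h1 : g * x * g⁻¹ * x⁻¹ ∈ P ⊔ E₃ :=
          hder (Subgroup.commutator_mem_commutator (c.hUE hg) (hPE.le hx))
        have h1' : g * x * g⁻¹ * x⁻¹ ∈ ((P ⊔ E₃ : Subgroup G) : Set G) := h1
        rw [Subgroup.coe_mul_of_left_le_normalizer_right P E₃ (hPE.le.trans hn₃)] at h1'
        obtain ⟨x', hx', e, he, hxe⟩ := h1'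
        have hcU : g * x * g⁻¹ * x⁻¹ ∈ U :=
          U.mul_mem (U.mul_mem (U.mul_mem hg (hPU.le hx)) (U.inv_mem hg)) (U.inv_mem (hPU.le hx))
        have heU : e ∈ U := by
          have : e = x'⁻¹ * (g * x * g⁻¹ * x⁻¹) := by rw [← hxe]; group
          rw [this]
          exact U.mul_mem (U.inv_mem (hPU.le hx')) hcU
        have heU₃ : e ∈ U₃ := by rw [hU₃]; exact ⟨he, heU⟩
        have e1 : g * x * g⁻¹ = (g * x * g⁻¹ * x⁻¹) * x := by group
        rw [e1, ← hxe]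
        exact Subgroup.mul_mem _ (Subgroup.mul_mem _ (Subgroup.mem_sup_left hx')
          (Subgroup.mem_sup_right heU₃)) (Subgroup.mem_sup_left hx)
      · have := conjSub_eq_of_mem_normalizer (hUU₃ hg)
        unfold conjSub at this
        rw [this]
        exact le_sup_right
    obtain ⟨l, hl, hlg⟩ := hPL.frattini hgL
    have hlgN : l * g ∈ N := by
      rw [hN]
      exact ⟨U.mul_mem (hLU hl) hg, hlg⟩
    have hLle : L ≤ N ⊔ U₃ := hL ▸ sup_le (hPN.trans le_sup_left) le_sup_right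
    have e2 : g = l⁻¹ * (l * g) := by group
    rw [e2]
    exact Subgroup.mul_mem _ (Subgroup.inv_mem _ (hLle hl)) (Subgroup.mem_sup_left hlgN)
  have hNrel : N.relIndex U ∣ Nat.card U₃ := by
    have hUeq : N ⊔ U₃ = U := le_antisymm (sup_le hNU hU₃U) hfrat
    have h1 := relIndex_sup_of_le_normalizer N U₃ (hNU.trans hUU₃)
    rw [hUeq] at h1
    rw [h1]
    exact Subgroup.relIndex_dvd_card _ _
  have hE₃τ : ∀ r : ℕ, r.Prime → r ∣ Nat.card U₃ → r ∈ Cfsg.tau3 M := fun r hr hrd =>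
    hE₃.2.1 r hr (hrd.trans (Subgroup.card_dvd_of_le hU₃E₃))
  have hNs : Group.IsSolvable N := compl_solvable c.hG c.hM (hNU.trans c.hUM)
  obtain ⟨F, hF⟩ := exists_piHallOf (Cfsg.tau1 M ∪ Cfsg.tau3 M) N
  have hFU : F ≤ U := hF.1.trans hNU
  have hFE : F ≤ E := hFU.trans c.hUE
  have hFP : F ≤ Subgroup.normalizer (P : Set G) := hF.1.trans hNP
  have hpF : ¬ p ∣ Nat.card F := fun hd => tau13_not_tau2 (hF.2.1 p hp.1 hd) hp
  have hcop : (Nat.card F).Coprime p := ((Nat.Prime.coprime_iff_not_dvd hp.1).mpr hpF).symm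
  have hregF : ∀ x ∈ F, ∀ r : ℕ, r.Prime → orderOf x = r →
      r ∈ Cfsg.tau1 M ∪ Cfsg.tau3 M →
      Cfsg.sigmaCore M ⊓ Subgroup.centralizer ({x} : Set G) = ⊥ :=
    fun x hx r hr hxo hτ' => c.prime_order_regular (hFU hx) hr hxo hτ'
  obtain ⟨P₀, hP₀P, hFP₀, hcyc, hexp, hreg⟩ :=
    exists_P0 ctx c.nc c.h12 h13 hAP hPM hFE hFP hcop hregF
  have hP₀U : P₀ ≤ U := hP₀P.trans hPU.le
  have hFP₀U : F ⊔ P₀ ≤ U := sup_le hFU hP₀U
  have hpU₃ : ¬ p ∣ Nat.card U₃ := fun hd =>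
    tau13_not_tau2 (Or.inr (hE₃τ p hp.1 hd)) hp
  refine ⟨(F ⊔ P₀) ⊔ U₃, sup_le hFP₀U hU₃U, ?_, ?_⟩
  · intro q hq _
    rw [hτ] at hq
    have hqp : q = p := hq
    rw [hqp]
    refine ⟨P₀, ⟨⟨le_sup_right.trans le_sup_left, hPU.isPGroup.to_le hP₀P, ?_⟩, hcyc, ?_, hreg⟩⟩
    · have h1 := Cfsg.Agent.Lib.Helper1.BG12.card_mul_relIndex_of_le
        ((le_sup_right.trans le_sup_left : P₀ ≤ (F ⊔ P₀) ⊔ U₃))
      have h2 : Nat.card ((F ⊔ P₀) ⊔ U₃ : Subgroup G) ∣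
          Nat.card (F ⊔ P₀ : Subgroup G) * Nat.card U₃ := card_sup_dvd (hFP₀U.trans hUU₃)
      have h3 : Nat.card (F ⊔ P₀ : Subgroup G) ∣ Nat.card F * Nat.card P₀ := card_sup_dvd hFP₀
      have h4 : Nat.card P₀ * P₀.relIndex ((F ⊔ P₀) ⊔ U₃) ∣
          Nat.card P₀ * (Nat.card F * Nat.card U₃) := by
        rw [h1]
        refine h2.trans ?_
        have : Nat.card P₀ * (Nat.card F * Nat.card U₃) =
            (Nat.card F * Nat.card P₀) * Nat.card U₃ := by ring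
        rw [this]
        exact Nat.mul_dvd_mul_right h3 _
      have h5 := Nat.dvd_of_mul_dvd_mul_left Nat.card_pos h4
      intro hd
      rcases (Nat.Prime.dvd_mul hp.1).mp (hd.trans h5) with h | h
      · exact hpF h
      · exact hpU₃ h
    · rintro x hxU ⟨k, hxk⟩
      obtain ⟨t, ht, hle⟩ := hPU.exists_conj_le (Subgroup.zpowers_le.mpr hxU)
        (isPGroup_of_orderOf hxk)
      have hmem : t * x * t⁻¹ ∈ P := hle (conj_mem_conjSub (Subgroup.mem_zpowers x))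
      have h1 := hexp _ hmem
      rw [conj_pow] at h1
      have : x ^ Nat.card P₀ = t⁻¹ * (t * x ^ Nat.card P₀ * t⁻¹) * t := by group
      rw [this, h1]; group
  · intro r hτ' hr
    have hrf : Fact r.Prime := ⟨hr⟩
    rcases hτ' with h1 | h3
    · intro hd
      have hFY : F ≤ (F ⊔ P₀) ⊔ U₃ := le_sup_left.trans le_sup_left
      have e1 := Subgroup.relIndex_mul_relIndex F ((F ⊔ P₀) ⊔ U₃) U hFY (sup_le hFP₀U hU₃U)
      have e2 := Subgroup.relIndex_mul_relIndex F N U hF.1 hNU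
      have h2 : r ∣ F.relIndex N * N.relIndex U := by
        rw [e2, ← e1]; exact Dvd.dvd.mul_left hd _
      rcases (Nat.Prime.dvd_mul hr).mp h2 with h | h
      · exact hF.2.2 r hr (Or.inl h1) h
      · have h4 := hE₃τ r hr (h.trans hNrel)
        exact h1.2.2.2.1 h4.2.2.1
    · intro hd
      obtain ⟨R, hR⟩ := exists_isSylowIn r U
      have hRU₃ : R ≤ U₃ := by
        intro x hx
        rw [hU₃]
        refine ⟨?_, hR.le hx⟩
        apply mem_of_piHall_normal hE₃ hn₃ (c.hUE (hR.le hx))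
        intro q hq hqd
        rw [prime_eq_of_dvd_orderOf hR.isPGroup hx hq hqd]
        exact h3
      have hRY : R ≤ (F ⊔ P₀) ⊔ U₃ := hRU₃.trans le_sup_right
      have e1 := Subgroup.relIndex_mul_relIndex R ((F ⊔ P₀) ⊔ U₃) U hRY (sup_le hFP₀U hU₃U)
      apply hR.not_dvd
      rw [← e1]
      exact Dvd.dvd.mul_left hd _

end Cfsg.Agent.Lib.Helper1.BG12b
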