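import Mathlib
import Cfsg.Agent.Lib.Helper1.BG12b.Setup

set_option autoImplicit false

namespace Cfsg.Agent.Lib.Helper1.BG12b

open Cfsg Cfsg.Agent.Lib.Helper18 Cfsg.Agent.Lib.Helper28.BGt

variable {G : Type*} [Group G] [Finite G]

theorem regCtx_of_decomp (hG : Cfsg.IsMinSimpleOddOrder G) (h16 : T1416 G) (h17 : T1417 G)
    (nc : NC G) (h12 : T1412 G) {M K U : Subgroup G} (hM : IsCoatom M)
    (hKU : Cfsg.IsSigmaDecomposition M K U) : RegCtx M (U ⊔ K) U := by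
  refine ⟨hG, h16, h17, nc, h12, hM, Cfsg.Agent.Lib.Helper1.BG15.compl_of_decomp hG hM hKU,
    le_sup_left, sup_le Subgroup.le_normalizer hKU.normal, ?_⟩
  intro e he he1 hτ
  by_contra hne
  obtain ⟨⟨y, hy⟩, hy1'⟩ := (Subgroup.ne_bot_iff_exists_ne_one).mp hne
  have hy1 : y ≠ 1 := fun h => hy1' (Subtype.ext h)
  have hey : e * y = y * e := by
    have := (Subgroup.mem_centralizer_iff.mp hy.2) e rfl
    exact this
  have hne1 : orderOf e ≠ 1 := fun h => he1 (orderOf_eq_one_iff.mp h)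
  obtain ⟨q, hq, hqd⟩ := Nat.exists_prime_and_dvd hne1
  have h2 := Cfsg.Agent.Lib.Helper1.BG15.tau2_of_nonregular hG hM hKU he hq hqd hy.1 hy1 hey
  exact tau13_not_tau2 (hτ q hq hqd) h2

end Cfsg.Agent.Lib.Helper1.BG12b
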