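import Mathlib
import Cfsg.Agent.Lib.Helper1.BG12b.AssemNonab
import Cfsg.Agent.Lib.Helper1.BG12b.Decomp

set_option autoImplicit false

namespace Cfsg.Agent.Lib.Helper1.BG12b

open Cfsg Cfsg.Agent.Lib.Helper18 Cfsg.Agent.Lib.Helper28.BGt
open scoped commutatorElement

variable {G : Type*} [Group G] [Finite G]

theorem part_two {M E U : Subgroup G} (c : RegCtx M E U) (h13 : T1427 G)
    (hU2 : ∀ q ∈ Cfsg.tau2 M, ¬ q ∣ U.relIndex E) :
    ∃ U₀ : Subgroup G, U₀ ≤ U ∧ Monoid.exponent U₀ = Monoid.exponent U ∧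
      ∀ u ∈ U₀, u ≠ 1 → Cfsg.sigmaCore M ⊓ Subgroup.centralizer ({u} : Set G) = ⊥ := by
  by_cases h : ∀ q ∈ Cfsg.tau2 M, ∃ S : Sylow q G, IsMulCommutative (S : Subgroup G)
  · obtain ⟨Y, hYU, h1, h2⟩ := assem_abel c h13 hU2 h
    obtain ⟨he, hr⟩ := final_lemma c hYU h1 h2
    exact ⟨Y, hYU, he, hr⟩
  · push Not at h
    obtain ⟨p, hp, hS⟩ := h
    obtain ⟨Y, hYU, h1, h2⟩ := assem_nonab c h13 hU2 hp hS
    obtain ⟨he, hr⟩ := final_lemma c hYU h1 h2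
    exact ⟨Y, hYU, he, hr⟩

theorem relIndex_sup_dvd_card {U K : Subgroup G}
    (hK : K ≤ Subgroup.normalizer (U : Set G)) : U.relIndex (U ⊔ K) ∣ Nat.card K := by
  have h1 := card_sup_of_le_normalizer hK
  have h2 := Cfsg.Agent.Lib.Helper1.BG12.card_mul_relIndex_of_le (le_sup_left : U ≤ U ⊔ K)
  have h3 := Cfsg.Agent.Lib.Helper1.BG12.card_mul_relIndex_of_le (inf_le_right : K ⊓ U ≤ U)
  rw [Subgroup.inf_relIndex_right] at h3
  rw [sup_comm] at h1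
  have h4 : Nat.card U * (Nat.card ↥(K ⊓ U) * U.relIndex (U ⊔ K)) = Nat.card U * Nat.card K := by
    calc Nat.card U * (Nat.card ↥(K ⊓ U) * U.relIndex (U ⊔ K))
        = Nat.card ↥(K ⊓ U) * (Nat.card U * U.relIndex (U ⊔ K)) := by ring
      _ = Nat.card ↥(K ⊓ U) * (Nat.card K * K.relIndex U) := by rw [h2, h1]
      _ = (Nat.card ↥(K ⊓ U) * K.relIndex U) * Nat.card K := by ring
      _ = Nat.card U * Nat.card K := by rw [h3]
  have h5 := Nat.eq_of_mul_eq_mul_left Nat.card_pos h4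
  exact Dvd.intro_left _ h5

theorem decomp_hU2 {M K U : Subgroup G} (hKU : Cfsg.IsSigmaDecomposition M K U) :
    ∀ q ∈ Cfsg.tau2 M, ¬ q ∣ U.relIndex (U ⊔ K) := by
  intro q hq hd
  have hqf : Fact q.Prime := ⟨hq.1⟩
  have h1 : q ∣ Nat.card K := hd.trans (relIndex_sup_dvd_card hKU.normal)
  have hκ := hKU.hall.2.1 q hq.1 h1
  obtain ⟨P⟩ : Nonempty (Sylow q ↥M) := inferInstance
  have hcyc := (hκ.2.2.2 P).1
  have hcyc' : IsCyclic ↥((P : Subgroup ↥M).map M.subtype) :=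
    ((P : Subgroup ↥M).equivMapOfInjective M.subtype M.subtype_injective).isCyclic.mp hcyc
  exact hq.2.2.2 (pRankLE_one_of_cyclic_sylow (isSylowIn_of_sylow P) hcyc')

end Cfsg.Agent.Lib.Helper1.BG12b
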